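import Cfsg.Agent.Lib.Suzuki2.ClassTwo.Squares

/-!
# The order of a Suzuki 2-group is `q²` or `q³`
-/

set_option autoImplicit false
set_option linter.unusedSectionVars false
set_option linter.style.haveILetI false

namespace Cfsg.Agent.Lib.Suzuki2.ClassTwo

open Cfsg.Agent.Lib.Suzuki2.Basic
open scoped commutatorElement
open MvPolynomial

theorem zmod_two_cases : ∀ c : ZMod 2, c = 0 ∨ c = 1 := by decide

/-- An anisotropic quadratic map from `GF(2)^m` to `GF(2)^n` has `m ≤ 2n`. -/
theorem anisotropic_le {m n : ℕ} (Q : (Fin m → ZMod 2) → Fin n → ZMod 2)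
    (B : (Fin m → ZMod 2) → (Fin m → ZMod 2) → Fin n → ZMod 2)
    (hQ : ∀ u v, Q (u + v) = Q u + Q v + B u v)
    (hBl : ∀ u u' v, B (u + u') v = B u v + B u' v) (hBr : ∀ u v v', B u (v + v') = B u v + B u v')
    (haniso : ∀ v, Q v = 0 → v = 0) : m ≤ 2 * n := by
  classical
  haveI : Fact (Nat.Prime 2) := ⟨Nat.prime_two⟩
  by_contra hlt
  rw [not_le] at hlt
  have hzero_one : ∀ c : ZMod 2, c = 0 ∨ c = 1 := zmod_two_cases
  let e : Fin m → Fin m → ZMod 2 := fun i => Pi.single i 1
  let β : Fin n → Fin m → Fin m → ZMod 2 := fun k i j =>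
    if i = j then Q (e i) k else if i < j then B (e i) (e j) k else 0
  let g : (Fin m → ZMod 2) → Fin n → ZMod 2 := fun v k => ∑ i, ∑ j, β k i j * v i * v j
  have hQ0 : Q 0 = 0 := by
    have h := hQ 0 0
    have hB0 : B (0 : Fin m → ZMod 2) 0 = 0 := by
      have h1 := hBl 0 0 0
      rw [add_zero] at h1
      exact left_eq_add.1 h1
    rw [add_zero, hB0, add_zero] at h
    exact left_eq_add.1 h
  have hBalt : ∀ v, B v v = 0 := fun v => by
    have hvv : v + v = 0 := funext fun _ => CharTwo.add_self_eq_zero _
    have hqq : Q v + Q v = 0 := funext fun _ => CharTwo.add_self_eq_zero _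
    have h := hQ v v
    rw [hvv, hQ0, hqq, zero_add] at h
    exact h.symm
  have hBsymm : ∀ u v, B u v = B v u := fun u v => by
    have h := hQ v u
    rw [add_comm v u, hQ u v, add_comm (Q v) (Q u)] at h
    exact add_left_cancel h
  have hg : ∀ v, Q v = g v := by
    -- both sides have the same polar form and agree on the basis
    let D : (Fin m → ZMod 2) → Fin n → ZMod 2 := fun v => Q v + g v
    have hgadd : ∀ u v, g (u + v) = g u + g v + fun k => ∑ i, ∑ j, β k i j * (u i * v j + v i * u j) := by
      intro u v; funext k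
      simp only [g, Pi.add_apply, ← Finset.sum_add_distrib]
      exact Finset.sum_congr rfl fun i _ => Finset.sum_congr rfl fun j _ => by ring
    have hB : ∀ u v k, B u v k = ∑ i, ∑ j, β k i j * (u i * v j + v i * u j) := by
      intro u v k
      let Bl : (Fin m → ZMod 2) →+ ((Fin m → ZMod 2) →+ ZMod 2) :=
        AddMonoidHom.mk' (fun u => AddMonoidHom.mk' (fun v => B u v k) fun v v' => by rw [hBr]; rfl)
          fun u u' => AddMonoidHom.ext fun v => by simp [hBl]
      have hexp : B u v k = ∑ i, ∑ j, u i * v j * B (e i) (e j) k := by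
        have hu : u = ∑ i, u i • e i := by
          funext j; simp [e, Finset.sum_apply, Pi.single_apply]
        have hv : v = ∑ i, v i • e i := by
          funext j; simp [e, Finset.sum_apply, Pi.single_apply]
        have hc1 : ∀ (c : ZMod 2) (w w' : Fin m → ZMod 2), Bl (c • w) w' = c * Bl w w' := fun c w w' => by
          rcases hzero_one c with rfl | rfl <;> simp
        have hc2 : ∀ (c : ZMod 2) (w w' : Fin m → ZMod 2), Bl w (c • w') = c * Bl w w' := fun c w w' => by
          rcases hzero_one c with rfl | rfl <;> simp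
        show Bl u v = _
        conv_lhs => rw [hu, map_sum]
        rw [AddMonoidHom.finsetSum_apply]
        refine Finset.sum_congr rfl fun i _ => ?_
        rw [hc1]
        conv_lhs => rw [hv, map_sum, Finset.mul_sum]
        exact Finset.sum_congr rfl fun j _ => by rw [hc2, ← mul_assoc]; rfl
      rw [hexp]
      have hsplit : ∑ i, ∑ j, β k i j * (u i * v j + v i * u j) =
          ∑ i, ∑ j, (β k i j + β k j i) * (u i * v j) := by
        simp only [add_mul, mul_add, Finset.sum_add_distrib]
        congr 1
        rw [Finset.sum_comm]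
        exact Finset.sum_congr rfl fun i _ => Finset.sum_congr rfl fun j _ => by ring
      rw [hsplit]
      refine Finset.sum_congr rfl fun i _ => Finset.sum_congr rfl fun j _ => ?_
      rcases lt_trichotomy i j with h | h | h
      · simp [β, h, h.ne, h.ne', h.not_gt]; ring
      · subst h; simp [β, hBalt, CharTwo.add_self_eq_zero]
      · simp [β, h, h.ne, h.ne', h.not_gt, hBsymm (e i) (e j)]; ring
    have hD : ∀ u v, D (u + v) = D u + D v := by
      intro u v; funext k
      have h2 : (g u + g v + fun k => ∑ i, ∑ j, β k i j * (u i * v j + v i * u j)) k = g u k + g v k + B u v k := by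
        rw [hB]; rfl
      show Q (u + v) k + g (u + v) k = _
      rw [hQ, hgadd, h2]
      show Q u k + Q v k + B u v k + (g u k + g v k + B u v k) = (Q u k + g u k) + (Q v k + g v k)
      have h3 := CharTwo.add_self_eq_zero (B u v k)
      linear_combination h3
    have hDe : ∀ i, D (e i) = 0 := by
      intro i; funext k
      show Q (e i) k + g (e i) k = 0
      have : g (e i) k = Q (e i) k := by
        show ∑ a, ∑ b, β k a b * e i a * e i b = _
        rw [Finset.sum_eq_single i, Finset.sum_eq_single i]
        · simp [β, e]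
        · intro b _ hb; simp [e, hb]
        · simp
        · intro a _ ha; simp [e, ha]
        · simp
      rw [this, CharTwo.add_self_eq_zero]
    intro v
    let Dh := AddMonoidHom.mk' D hD
    have h0 : Dh v = 0 := by
      have hsm : ∀ (c : ZMod 2) (i : Fin m), Dh (c • e i) = 0 := fun c i => by
        rcases hzero_one c with rfl | rfl
        · simp
        · simpa [Dh] using hDe i
      rw [show v = ∑ i, v i • e i from funext fun j => by simp [e, Finset.sum_apply, Pi.single_apply], map_sum]
      exact Finset.sum_eq_zero fun i _ => hsm _ i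
    funext k
    have := congrFun h0 k
    exact (eq_neg_of_add_eq_zero_left this).trans (CharTwo.neg_eq _)
  let f : Fin n → MvPolynomial (Fin m) (ZMod 2) := fun k => ∑ i, ∑ j, C (β k i j) * X i * X j
  have hdeg : ∀ k, (f k).totalDegree ≤ 2 := fun k => by
    refine totalDegree_finsetSum_le fun i _ => totalDegree_finsetSum_le fun j _ => ?_
    refine (totalDegree_mul _ _).trans (add_le_add ((totalDegree_mul _ _).trans ?_) (totalDegree_X j).le)
    simp
  have hCW := char_dvd_card_solutions_of_fintype_sum_lt 2 (f := f) (by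
    refine lt_of_le_of_lt (Finset.sum_le_card_nsmul _ _ 2 fun k _ => hdeg k) ?_
    simpa [mul_comm] using hlt)
  have hone : Fintype.card {x : Fin m → ZMod 2 // ∀ k, eval x (f k) = 0} = 1 := by
    rw [Fintype.card_eq_one_iff]
    refine ⟨⟨0, fun k => by simp [f]⟩, fun x => Subtype.ext (haniso _ (funext fun k => ?_))⟩
    rw [hg]
    simpa [f, g] using x.2 k
  simp only [← Nat.card_eq_fintype_card] at hCW hone
  rw [hone] at hCW
  exact absurd hCW (by norm_num)

variable {P : Type*} [Group P] [Finite P] {K : Subgroup (MulAut P)}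

theorem RegInvol.card_K (h : RegInvol K) : Nat.card K + 1 = Nat.card (Subgroup.center P) := by
  classical
  obtain ⟨z, -, -, hz1, hz, -⟩ := h.two
  let e : K → {y : Subgroup.center P // y ≠ 1} := fun l =>
    ⟨⟨(l : MulAut P) z, apply_center _ (h.mem_center_iff.2 hz)⟩,
      fun he => hz1 ((l : MulAut P).injective ((congrArg Subtype.val he).trans (map_one _).symm))⟩
  have he : Function.Bijective e := by
    refine ⟨fun l m hlm => ?_, fun y => ?_⟩
    · have h1 : (l : MulAut P) z = (m : MulAut P) z := congrArg (fun v => ((v.1 : Subgroup.center P) : P)) hlm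
      have h2 := h.free (K.mul_mem (K.inv_mem m.2) l.2) hz1 (by
        rw [MulAut.mul_apply, h1, MulAut.inv_apply_self])
      exact (inv_mul_eq_one.1 (Subtype.ext h2 : (m⁻¹ * l : K) = 1)).symm
    · obtain ⟨l, hl, hly⟩ := h.trans.trans z y.1 hz1 hz (fun h1 => y.2 (Subtype.ext h1))
        (h.mem_center_iff.1 y.1.2)
      exact ⟨⟨l, hl⟩, Subtype.ext (Subtype.ext hly)⟩
  letI := Fintype.ofFinite (Subgroup.center P)
  rw [Nat.card_congr (Equiv.ofBijective e he), Nat.card_eq_fintype_card, Nat.card_eq_fintype_card,
    Fintype.card_subtype_compl, Fintype.card_subtype_eq]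
  have := Fintype.card_pos (α := Subgroup.center P)
  omega

theorem RegInvol.card_eq (h : RegInvol K) :
    Nat.card P = Nat.card (Subgroup.center P) ^ 2 ∨ Nat.card P = Nat.card (Subgroup.center P) ^ 3 := by
  classical
  haveI : Fact (Nat.Prime 2) := ⟨Nat.prime_two⟩
  let Z := Subgroup.center P
  let V := P ⧸ Z
  have hsq := h.sq_mem_center
  have hcomm := h.comm_mem_center
  have hV2 : ∀ a : V, a * a = 1 := fun a => by
    obtain ⟨a, rfl⟩ := QuotientGroup.mk_surjective a
    rw [← QuotientGroup.mk_mul, QuotientGroup.eq_one_iff]; exact hsq a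
  have hVc : ∀ a b : V, a * b = b * a := fun a b => by
    have h1 := hV2 (a * b)
    calc a * b = (a * b)⁻¹ := (inv_eq_of_mul_eq_one_left h1).symm
      _ = b⁻¹ * a⁻¹ := mul_inv_rev a b
      _ = b * a := by rw [inv_eq_of_mul_eq_one_left (hV2 a), inv_eq_of_mul_eq_one_left (hV2 b)]
  obtain ⟨m, hm⟩ := IsPGroup.iff_card.1 (h.pgroup.to_quotient Z)
  obtain ⟨n, hn⟩ := IsPGroup.iff_card.1 (h.pgroup.to_subgroup Z)
  have hcardP : Nat.card P = 2 ^ m * 2 ^ n := by
    rw [Subgroup.card_eq_card_quotient_mul_card_subgroup Z]
    congr 1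
  -- squaring is a function on the quotient
  have hsame : ∀ a b : P, a⁻¹ * b ∈ Z → a * a = b * b := by
    intro a b hab
    have hz := h.mem_center_iff.1 hab
    calc a * a = a * a * (a⁻¹ * b * (a⁻¹ * b)) := by rw [hz, mul_one]
      _ = a * (a * (a⁻¹ * b)) * (a⁻¹ * b) := by group
      _ = a * ((a⁻¹ * b) * a) * (a⁻¹ * b) := by rw [Subgroup.mem_center_iff.1 hab a]
      _ = b * b := by group
  let sq : V → Z := fun v => ⟨v.out * v.out, hsq _⟩
  have hsq_mk : ∀ a : P, (sq (a : V) : P) = a * a := fun a => hsame _ _ (by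
    rw [← QuotientGroup.eq, QuotientGroup.out_eq'])
  have hnZ : ¬ (⊤ : Subgroup P) ≤ Z := fun hle => by
    obtain ⟨x, y, hxy⟩ := h.nc
    exact hxy (Subgroup.mem_center_iff.1 (hle (Subgroup.mem_top y)) x)
  have hnm : n ≤ m := by
    have hsurj : Function.Surjective sq := fun z => by
      obtain ⟨a, -, ha⟩ := h.sq_surj (A := ⊤) (fun k _ x _ => Subgroup.mem_top _) hnZ z.2
      exact ⟨(a : V), Subtype.ext ((hsq_mk a).trans ha)⟩
    have := Nat.card_le_card_of_surjective sq hsurj
    rw [show Nat.card V = 2 ^ m from hm, show Nat.card Z = 2 ^ n from hn] at this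
    exact (Nat.pow_le_pow_iff_right (by norm_num)).1 this
  have hdvd : n ∣ m := by
    have hK : Nat.card K = 2 ^ n - 1 := by
      have := h.card_K
      rw [show Nat.card (Subgroup.center P) = 2 ^ n from hn] at this
      omega
    letI : MulAction K {v : V // v ≠ 1} :=
      { smul := fun k v => ⟨quotAut P (k : MulAut P) v.1, fun he => v.2 ((quotAut P (k : MulAut P)).injective
          (he.trans (map_one _).symm))⟩
        one_smul := fun v => Subtype.ext (by show quotAut P (1 : MulAut P) v.1 = v.1; rw [map_one]; rfl)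
        mul_smul := fun k l v => Subtype.ext (by
          show quotAut P ((k : MulAut P) * l) v.1 = _
          rw [map_mul]; rfl) }
    have hfree : ∀ v : {v : V // v ≠ 1}, MulAction.stabilizer K v = ⊥ := by
      intro v
      rw [eq_bot_iff]
      intro k hk
      obtain ⟨a, ha⟩ := QuotientGroup.mk_surjective v.1
      have h1 : quotAut P (k : MulAut P) (a : V) = (a : V) := by
        rw [ha]; exact congrArg Subtype.val (MulAction.mem_stabilizer_iff.1 hk)
      rw [quotAut_mk] at h1
      exact Subtype.ext (h.free_coset kinv_center k.2 (fun haZ => v.2 (by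
        rw [← ha]; exact (QuotientGroup.eq_one_iff _).2 haZ)) (QuotientGroup.eq.1 h1.symm))
    have hd : Nat.card K ∣ Nat.card {v : V // v ≠ 1} := by
      letI := Fintype.ofFinite (MulAction.orbitRel.Quotient K {v : V // v ≠ 1})
      rw [Nat.card_congr (MulAction.selfEquivSigmaOrbits K {v : V // v ≠ 1}), Nat.card_sigma]
      refine Finset.dvd_sum fun ω _ => ?_
      rw [Nat.card_congr (MulAction.orbitEquivQuotientStabilizer K _), ← Subgroup.index_eq_card, hfree,
        Subgroup.index_bot]
    have hcardV : Nat.card {v : V // v ≠ 1} = 2 ^ m - 1 := by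
      letI := Fintype.ofFinite V
      rw [Nat.card_eq_fintype_card, Fintype.card_subtype_compl, Fintype.card_subtype_eq,
        ← Nat.card_eq_fintype_card, show Nat.card V = 2 ^ m from hm]
    rw [hK, hcardV] at hd
    have h1 := Nat.pow_sub_one_gcd_pow_sub_one 2 n m
    rw [Nat.gcd_eq_left hd] at h1
    have h2 : 2 ^ n = 2 ^ Nat.gcd n m := by
      have := Nat.one_le_two_pow (n := n)
      have := Nat.one_le_two_pow (n := Nat.gcd n m)
      omega
    rw [Nat.pow_right_injective le_rfl h2]
    exact Nat.gcd_dvd_right n m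
  have hle : m ≤ 2 * n := by
    letI : CommGroup V := { (inferInstance : Group V) with mul_comm := hVc }
    letI : CommGroup Z := { (inferInstance : Group Z) with
      mul_comm := fun a b => Subtype.ext (Subgroup.mem_center_iff.1 b.2 a) }
    letI : Module (ZMod 2) (Additive V) := AddCommGroup.zmodModule fun a => by
      rw [two_nsmul]; exact hV2 a.toMul
    letI : Module (ZMod 2) (Additive Z) := AddCommGroup.zmodModule fun a => by
      rw [two_nsmul]; exact Subtype.ext (h.mem_center_iff.1 a.toMul.2)
    haveI : Finite (Additive V) := inferInstanceAs (Finite V)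
    haveI : Finite (Additive Z) := inferInstanceAs (Finite Z)
    haveI : Module.Finite (ZMod 2) (Additive V) := Module.Finite.of_finite
    haveI : Module.Finite (ZMod 2) (Additive Z) := Module.Finite.of_finite
    have hfV : Module.finrank (ZMod 2) (Additive V) = m := by
      have h1 := Module.natCard_eq_pow_finrank (K := ZMod 2) (V := Additive V)
      rw [Nat.card_congr (Additive.toMul (α := V)), show Nat.card V = 2 ^ m from hm, Nat.card_zmod] at h1
      exact (Nat.pow_right_injective le_rfl h1).symm
    have hfZ : Module.finrank (ZMod 2) (Additive Z) = n := by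
      have h1 := Module.natCard_eq_pow_finrank (K := ZMod 2) (V := Additive Z)
      rw [Nat.card_congr (Additive.toMul (α := Z)), show Nat.card Z = 2 ^ n from hn, Nat.card_zmod] at h1
      exact (Nat.pow_right_injective le_rfl h1).symm
    let bV := (Module.finBasisOfFinrankEq (ZMod 2) (Additive V) hfV).equivFun
    let bZ := (Module.finBasisOfFinrankEq (ZMod 2) (Additive Z) hfZ).equivFun
    let lift : (Fin m → ZMod 2) → P := fun u => (bV.symm u).toMul.out
    have hlift : ∀ u, ((lift u : P) : V) = (bV.symm u).toMul := fun u => QuotientGroup.out_eq' _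
    let Q : (Fin m → ZMod 2) → Fin n → ZMod 2 := fun u => bZ (Additive.ofMul (sq (bV.symm u).toMul))
    let Bf : P → P → Z := fun a b => ⟨⁅b, a⁆, hcomm b a⟩
    have hBwd : ∀ a a' b b' : P, (a : V) = a' → (b : V) = b' → Bf a b = Bf a' b' := by
      intro a a' b b' ha hb
      apply Subtype.ext
      show ⁅b, a⁆ = ⁅b', a'⁆
      rw [QuotientGroup.eq] at ha hb
      rw [show a' = a * (a⁻¹ * a') by group, show b' = b * (b⁻¹ * b') by group,
        comm_mul_right (hcomm _ _), comm_elem_mul_left (hcomm _ _),
        show ⁅b * (b⁻¹ * b'), a⁻¹ * a'⁆ = 1 from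
          commutatorElement_eq_one_iff_mul_comm.2 (Subgroup.mem_center_iff.1 ha _),
        show ⁅b⁻¹ * b', a⁆ = 1 from
          commutatorElement_eq_one_iff_mul_comm.2 (Subgroup.mem_center_iff.1 hb _).symm, mul_one, mul_one]
    refine anisotropic_le Q (fun u v => bZ (Additive.ofMul (Bf (lift u) (lift v)))) (fun u v => ?_)
      (fun u u' v => ?_) (fun u v v' => ?_) (fun v hv => ?_)
    · show bZ _ = bZ _ + bZ _ + bZ _
      rw [← map_add, ← map_add, ← ofMul_mul, ← ofMul_mul]
      congr 2
      apply Subtype.ext
      rw [Subgroup.coe_mul, Subgroup.coe_mul, map_add, toMul_add, ← hlift, ← hlift, ← QuotientGroup.mk_mul,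
        hsq_mk, hsq_mk, hsq_mk]
      show _ = lift u * lift u * (lift v * lift v) * ⁅lift v, lift u⁆
      set a := lift u
      set b := lift v
      calc a * b * (a * b) = a * (⁅b, a⁆ * (a * b)) * b := by simp only [commutatorElement_def]; group
        _ = a * ((a * b) * ⁅b, a⁆) * b := by rw [Subgroup.mem_center_iff.1 (hcomm b a) (a * b)]
        _ = a * a * b * (⁅b, a⁆ * b) := by group
        _ = _ := by rw [← Subgroup.mem_center_iff.1 (hcomm b a) b]; group
    · show bZ _ = bZ _ + bZ _
      rw [← map_add, ← ofMul_mul]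
      congr 2
      rw [hBwd (lift (u + u')) (lift u * lift u') _ _ (by
        rw [QuotientGroup.mk_mul, hlift, hlift, hlift, map_add, toMul_add]) rfl]
      apply Subtype.ext
      rw [Subgroup.coe_mul]
      exact comm_mul_right (hcomm _ _)
    · show bZ _ = bZ _ + bZ _
      rw [← map_add, ← ofMul_mul]
      congr 2
      rw [hBwd _ _ (lift (v + v')) (lift v * lift v') rfl (by
        rw [QuotientGroup.mk_mul, hlift, hlift, hlift, map_add, toMul_add])]
      apply Subtype.ext
      rw [Subgroup.coe_mul]
      exact comm_elem_mul_left (hcomm _ _)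
    · have h1 : sq (bV.symm v).toMul = 1 :=
        Additive.ofMul.injective (bZ.injective (hv.trans (map_zero bZ).symm))
      have h2 : lift v ∈ Z := h.mem_center_iff.2 (congrArg Subtype.val h1)
      have h3 : bV.symm v = 0 := by
        rw [← QuotientGroup.eq_one_iff, hlift] at h2
        exact h2
      exact bV.symm.injective (h3.trans (map_zero bV.symm).symm)
  have hn1 : 1 ≤ m := by
    by_contra hm0
    have hVs : Nat.card V = 1 := by rw [show Nat.card V = 2 ^ m from hm, show m = 0 by omega, pow_zero]
    haveI := (Nat.card_eq_one_iff_unique.1 hVs).1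
    obtain ⟨x, -, hx⟩ := SetLike.not_le_iff_exists.1 hnZ
    exact hx ((QuotientGroup.eq_one_iff _).1 (Subsingleton.elim _ _))
  obtain ⟨d, hd⟩ := hdvd
  rw [show Nat.card (Subgroup.center P) = 2 ^ n from hn, hcardP, ← pow_add, ← pow_mul, ← pow_mul]
  have hn0 : 0 < n := by
    rcases Nat.eq_zero_or_pos n with h0 | h0
    · rw [h0, zero_mul] at hd; omega
    · exact h0
  have hd2 : d = 1 ∨ d = 2 := by
    have h1 : d ≤ 2 := Nat.le_of_mul_le_mul_left (by rw [← hd, mul_comm]; exact hle) hn0
    rcases Nat.eq_zero_or_pos d with h0 | h0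
    · rw [h0, mul_zero] at hd; omega
    · omega
  rcases hd2 with rfl | rfl
  · exact Or.inl (by rw [hd]; ring_nf)
  · exact Or.inr (by rw [hd]; ring_nf)

end Cfsg.Agent.Lib.Suzuki2.ClassTwo
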