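import Cfsg.Agent.Lib.Suzuki2.ClassTwo.Main

/-!
# Squares are central in Suzuki 2-groups: the second centre is not a proper commutative subgroup
-/

set_option autoImplicit false
set_option linter.unusedSectionVars false
set_option linter.style.haveILetI false

namespace Cfsg.Agent.Lib.Suzuki2.ClassTwo

open Cfsg.Agent.Lib.Suzuki2.Basic
open scoped commutatorElement

variable {P : Type*} [Group P] [Finite P] {K : Subgroup (MulAut P)}

theorem comm_mul_right {a b x : P} (hb : ⁅x, b⁆ ∈ Subgroup.center P) :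
    ⁅x, a * b⁆ = ⁅x, a⁆ * ⁅x, b⁆ := by
  calc ⁅x, a * b⁆ = ⁅x, a⁆ * (a * ⁅x, b⁆ * a⁻¹) := by simp only [commutatorElement_def]; group
    _ = _ := by rw [Subgroup.mem_center_iff.1 hb a]; group

theorem RegInvol.sq_center (h : RegInvol K) {w : P} (hw : w ∈ secondCenter P) :
    w * w ∈ Subgroup.center P :=
  Subgroup.mem_center_iff.2 fun g => (commutatorElement_eq_one_iff_mul_comm.1 (show ⁅w * w, g⁆ = 1 by
    rw [comm_elem_mul_left (mem_secondCenter.1 hw g)]
    exact h.mem_center_iff.1 (mem_secondCenter.1 hw g))).symm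

theorem RegInvol.secondCenter_not_comm (h : RegInvol K)
    (hWc : ∀ a ∈ secondCenter P, ∀ b ∈ secondCenter P, a * b = b * a) : False := by
  classical
  haveI : Fact (Nat.Prime 2) := ⟨Nat.prime_two⟩
  set W := secondCenter P with hW
  have hWK : KInv K W := kinv_secondCenter
  have hWne : ¬ W ≤ Subgroup.center P := h.secondCenter_not_le
  have hZW : Subgroup.center P ≤ W := center_le_secondCenter
  obtain ⟨a₁, ha₁, ha₁Z⟩ := SetLike.not_le_iff_exists.1 hWne
  set D := Subgroup.centralizer (W : Set P) with hD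
  have hDcomm := h.centralizer_comm hWK ha₁ ha₁Z (fun b hb => hWc b hb a₁ ha₁)
  have hWD : W ≤ D := fun w hw => Subgroup.mem_centralizer_iff.2 fun a ha => hWc a ha w hw
  have hDK : KInv K D := hWK.centralizer
  -- a field on the centre
  obtain ⟨n, hn⟩ := IsPGroup.iff_card.1 (h.pgroup.to_subgroup (Subgroup.center P))
  have hn2 : 2 ≤ n := by
    obtain ⟨x, y, hxy, hx1, hx, hy1, hy⟩ := h.two
    by_contra hlt
    have hle : Nat.card (Subgroup.center P) ≤ 2 := by
      rw [hn]; calc 2 ^ n ≤ 2 ^ 1 := Nat.pow_le_pow_right (by norm_num) (by omega)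
        _ = 2 := rfl
    let f : Fin 3 → Subgroup.center P := ![1, ⟨x, h.mem_center_iff.2 hx⟩, ⟨y, h.mem_center_iff.2 hy⟩]
    have hf : Function.Injective f := by
      intro i j hij
      fin_cases i <;> fin_cases j <;> simp [f, Subtype.ext_iff] at hij <;>
        first | rfl | exact absurd hij hx1 | exact absurd hij hy1 | exact absurd hij.symm hx1 |
          exact absurd hij.symm hy1 | exact absurd hij hxy | exact absurd hij.symm hxy
    have := Nat.card_le_card_of_injective f hf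
    simp at this; omega
  obtain ⟨z₀, -, -, hz₀1, hz₀, -⟩ := h.two
  obtain ⟨ι, hι, hιadd, hι1, hιz₀, hιmul⟩ := FieldModel.field_model (A := Subgroup.center P) (n := n) (by omega) hn
    (fun a => Subtype.ext (h.mem_center_iff.1 a.2)) (resAut kinv_center : K →* _).range
    (h.transInvol_res kinv_center).comm (fun a b ha hb => (h.transInvol_res kinv_center).trans a b ha
      (Subtype.ext (h.mem_center_iff.1 a.2)) hb (Subtype.ext (h.mem_center_iff.1 b.2)))
    (a₀ := ⟨z₀, h.mem_center_iff.2 hz₀⟩) (fun h1 => hz₀1 (congrArg Subtype.val h1))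
  letI : Fintype (GaloisField 2 n) := Fintype.ofFinite _
  have hF : Fintype.card (GaloisField 2 n) = 2 ^ n := by
    rw [← Nat.card_eq_fintype_card, GaloisField.card 2 n (by omega)]
  let e := Equiv.ofBijective ι hι
  set ζ : GaloisField 2 n → P := fun t => (e.symm t : P) with hζdef
  have hιe : ∀ t, ι (e.symm t) = t := e.apply_symm_apply
  have hζ : ∀ t, ζ t ∈ Subgroup.center P := fun t => (e.symm t).2
  have hζinj : ∀ {s t}, ζ s = ζ t → s = t := fun hst => e.symm.injective (Subtype.ext hst)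
  have hζsq : ∀ t, ζ t * ζ t = 1 := fun t => h.mem_center_iff.1 (hζ t)
  have hζadd : ∀ s t, ζ (s + t) = ζ s * ζ t := fun s t => by
    show ((e.symm (s + t) : Subgroup.center P) : P) = _
    rw [← Subgroup.coe_mul]
    exact congrArg Subtype.val (hι.1 (by rw [hιadd, hιe, hιe, hιe]))
  have hζ0 : ζ 0 = 1 := by
    show ((e.symm 0 : Subgroup.center P) : P) = _
    exact congrArg Subtype.val (hι.1 (by rw [hιe, hι1]) : e.symm 0 = 1)
  have hζz₀ : ζ 1 = z₀ := congrArg Subtype.val (hι.1 (by rw [hιe, hιz₀]) : e.symm 1 = ⟨z₀, _⟩)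
  have hζsurj : ∀ z ∈ Subgroup.center P, ∃ t, ζ t = z := fun z hz =>
    ⟨ι ⟨z, hz⟩, congrArg Subtype.val (e.symm_apply_apply ⟨z, hz⟩)⟩
  have hscal : ∀ t : GaloisField 2 n, t ≠ 0 → ∃ k ∈ K, ∀ s, k (ζ s) = ζ (t * s) := by
    intro t ht
    obtain ⟨k, hk, hkz⟩ := h.trans.trans z₀ (ζ t) hz₀1 hz₀ (fun h1 => ht (hζinj (h1.trans hζ0.symm))) (hζsq t)
    refine ⟨k, hk, fun s => ?_⟩
    have h1 := hιmul (resAut kinv_center ⟨k, hk⟩) ⟨_, rfl⟩ (e.symm s)
    rw [hιe, show resAut kinv_center ⟨k, hk⟩ ⟨z₀, h.mem_center_iff.2 hz₀⟩ = e.symm t from Subtype.ext hkz,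
      hιe] at h1
    exact congrArg Subtype.val (hι.1 (h1.trans (hιe _).symm))
  -- square roots in `W`
  choose r hrW hr using fun t => h.sq_surj hWK hWne (hζ t)
  have hLex : ∀ (x : P) (t : GaloisField 2 n), ∃ u, ζ u = ⁅x, r t⁆ := fun x t =>
    hζsurj _ (comm_mem' (hrW t) x)
  choose Lf hLf using hLex
  have hwd : ∀ x, ∀ w ∈ W, ∀ t, w * w = ζ t → ⁅x, w⁆ = ζ (Lf x t) := by
    intro x w hw t hwt
    rw [hLf]
    have hz : w⁻¹ * r t ∈ Subgroup.center P := h.mem_center_iff.2 (by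
      have hc := hWc _ (W.inv_mem hw) _ (hrW t)
      calc w⁻¹ * r t * (w⁻¹ * r t) = w⁻¹ * (r t * w⁻¹) * r t := by group
        _ = (w * w)⁻¹ * (r t * r t) := by rw [← hc]; group
        _ = 1 := by rw [hwt, hr, inv_mul_cancel])
    rw [show r t = w * (w⁻¹ * r t) by group, comm_mul_right (comm_mem' (hZW hz) x),
      show ⁅x, w⁻¹ * r t⁆ = 1 from commutatorElement_eq_one_iff_mul_comm.2 (Subgroup.mem_center_iff.1 hz x),
      mul_one]
  have hLadd : ∀ x s t, Lf x (s + t) = Lf x s + Lf x t := fun x s t => hζinj (by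
    rw [hζadd, hLf x s, hLf x t, ← hwd x (r s * r t) (W.mul_mem (hrW s) (hrW t)) (s + t) (by
      rw [hζadd, ← hr s, ← hr t]
      calc r s * r t * (r s * r t) = r s * (r t * r s) * r t := by group
        _ = _ := by rw [← hWc _ (hrW s) _ (hrW t)]; group)]
    exact comm_mul_right (comm_mem' (hrW t) x))
  choose c hc using fun x => ev_surjective hF (Lf x) (hLadd x)
  have hζc : ∀ x, ∀ w ∈ W, ∀ t, w * w = ζ t → ⁅x, w⁆ = ζ (ev (c x) t) := fun x w hw t hwt => by
    rw [hc]; exact hwd x w hw t hwt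
  have hev : ∀ {u v : Fin n → GaloisField 2 n}, (∀ t, ev u t = ev v t) → u = v := fun {u v} huv =>
    sub_eq_zero.1 (ev_injective hF fun t => by
      have h1 := ev_add_left (u - v) v t
      rw [sub_add_cancel, huv t] at h1
      simpa using h1)
  let cH : Additive P →+ (Fin n → GaloisField 2 n) := AddMonoidHom.mk' (fun x => c x.toMul) fun x y => hev fun t => by
    rw [ev_add_left, hc, hc, hc]
    refine hζinj ?_
    rw [hζadd, hLf, hLf, hLf, toMul_add, comm_elem_mul_left (comm_mem' (hrW t) _)]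
  have hcmul : ∀ x y, c (x * y) = c x + c y := fun x y => cH.map_add (Additive.ofMul x) (Additive.ofMul y)
  have hcinv : ∀ x, c x⁻¹ = - c x := fun x => cH.map_neg (Additive.ofMul x)
  have hchar : ∀ v : Fin n → GaloisField 2 n, v + v = 0 := fun v => funext fun j => CharTwo.add_self_eq_zero _
  have hcD : ∀ x, c x = 0 ↔ x ∈ D := by
    intro x
    refine ⟨fun hx => Subgroup.mem_centralizer_iff.2 fun w hw => ?_, fun hx => hev fun t => ?_⟩
    · obtain ⟨t, ht⟩ := hζsurj (w * w) (h.sq_center hw)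
      have h1 := hζc x w hw t ht.symm
      rw [hx, show ev (0 : Fin n → GaloisField 2 n) t = 0 by simp [ev], hζ0] at h1
      exact (commutatorElement_eq_one_iff_mul_comm.1 h1).symm
    · refine hζinj ?_
      rw [hc, hLf, show ev (0 : Fin n → GaloisField 2 n) t = 0 by simp [ev], hζ0]
      exact commutatorElement_eq_one_iff_mul_comm.2 (Subgroup.mem_centralizer_iff.1 hx _ (hrW t)).symm
  have hequiv : ∀ k ∈ K, ∀ t : GaloisField 2 n, t ≠ 0 → (∀ s, k (ζ s) = ζ (t * s)) → ∀ x,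
      c (k x) = tw t (c x) := by
    intro k hk t ht hks x
    refine hev fun s => hζinj ?_
    set w := k⁻¹ (r s) with hwdef
    have hw : w ∈ W := hWK _ (K.inv_mem hk) _ (hrW s)
    have hkw : k w = r s := k.apply_symm_apply _
    have hw2 : w * w = ζ (t⁻¹ * s) := by
      apply k.injective
      rw [map_mul, hkw, hr, hks, ← mul_assoc, mul_inv_cancel₀ ht, one_mul]
    rw [ev_tw, ← hks, ← hζc x w hw _ hw2, map_commutatorElement, hkw, hc, hLf]
  set 𝓒 := cH.range with h𝓒
  have hmem𝓒 : ∀ x, c x ∈ 𝓒 := fun x => ⟨Additive.ofMul x, rfl⟩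
  have hinv : ∀ t : GaloisField 2 n, t ≠ 0 → ∀ v ∈ 𝓒, tw t v ∈ 𝓒 := by
    rintro t ht _ ⟨x, rfl⟩
    obtain ⟨k, hk, hks⟩ := hscal t ht
    exact ⟨Additive.ofMul (k x.toMul), hequiv k hk t ht hks _⟩
  have hfree : ∀ t : GaloisField 2 n, t ≠ 0 → ∀ v ∈ 𝓒, v ≠ 0 → tw t v = v → t = 1 := by
    rintro t ht _ ⟨x, rfl⟩ hne htw
    obtain ⟨k, hk, hks⟩ := hscal t ht
    have h1 : x.toMul⁻¹ * k x.toMul ∈ D := (hcD _).1 (by
      rw [hcmul, hcinv, hequiv k hk t ht hks]
      show - cH x + tw t (cH x) = 0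
      rw [htw, neg_add_cancel])
    have h2 : k = 1 := h.free_coset hDK hk (fun hx => hne ((hcD _).2 hx)) h1
    have h3 := hks 1
    rw [h2, MulAut.one_apply, mul_one] at h3
    exact (hζinj h3).symm
  -- monomial elements
  have hsingle : ∀ x b, ∃ y, c y = Pi.single b (c x b) := fun x b => by
    obtain ⟨y, hy⟩ := single_mem hF 𝓒 hinv hfree _ (hmem𝓒 x) b
    exact ⟨y.toMul, hy⟩
  have hDtop : D ≠ ⊤ := fun htop => by
    obtain ⟨x, y, hxy⟩ := h.nc
    exact hxy (hDcomm x (show x ∈ D by rw [htop]; trivial) y (show y ∈ D by rw [htop]; trivial))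
  obtain ⟨x, b, s, hs, hxc⟩ : ∃ x b s, s ≠ 0 ∧ c x = Pi.single b s := by
    obtain ⟨x, -, hx⟩ := SetLike.exists_of_lt (lt_top_iff_ne_top.2 hDtop)
    obtain ⟨b, hb⟩ : ∃ b, c x b ≠ 0 := by
      by_contra hall; push Not at hall; exact hx ((hcD x).1 (funext hall))
    obtain ⟨y, hy⟩ := hsingle x b
    exact ⟨y, b, _, hb, hy⟩
  have hsqD : ∀ x, x * x ∈ D := fun x => (hcD _).1 (by rw [hcmul, hchar])
  have hconjD : ∀ x y, ⁅x, y⁆ ∈ D := fun x y => (hcD _).1 (by
    rw [commutatorElement_def, hcmul, hcmul, hcmul, hcinv, hcinv]; abel)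
  obtain ⟨t₁, ht₁0, ht₁1⟩ : ∃ t : GaloisField 2 n, t ≠ 0 ∧ t ≠ 1 := by
    by_contra hall
    push Not at hall
    have h1 : (Finset.univ : Finset (GaloisField 2 n)) ⊆ {0, 1} := fun t _ => by
      by_cases ht : t = 0
      · simp [ht]
      · simp [hall t ht]
    have h2 := (Finset.card_le_card h1).trans Finset.card_le_two
    rw [Finset.card_univ, hF] at h2
    have := Nat.pow_le_pow_right (show 0 < 2 by norm_num) hn2
    omega
  have uniq : ∀ (b : Fin n) (s : GaloisField 2 n), s ≠ 0 → Pi.single b s ∈ 𝓒 → ∀ u v, u ≠ 0 → v ≠ 0 →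
      s * u ^ 2 ^ (b : ℕ) = u → s * v ^ 2 ^ (b : ℕ) = v → u = v := by
    intro b s hs hmem u v hu hv h1 h2
    have h3 : (u * v⁻¹) ^ 2 ^ (b : ℕ) = u * v⁻¹ := by
      rw [mul_pow, inv_pow]
      conv_rhs => rw [← h1, ← h2]
      field_simp
    have h4 := eq_one_of_pow 𝓒 hfree hs hmem (mul_ne_zero hu (inv_ne_zero hv)) h3
    exact mul_inv_eq_one₀ hv |>.1 h4
  -- `D = W`
  have hDW : D ≤ W := by
    intro d hd
    by_contra hdW
    obtain ⟨d₁, hd₁, hd₁W, hd₁2⟩ := exists_pow_mem h hd hdW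
    have hd₁4 : d₁ * d₁ * (d₁ * d₁) ≠ 1 := fun h1 => hd₁W (h.absorb hWK hZW hWne
      (fun a ha => Subgroup.mem_centralizer_iff.1 hd₁ a ha) (h.mem_center_iff.2 h1))
    have hd₁4c : d₁ * d₁ * (d₁ * d₁) * (d₁ * d₁ * (d₁ * d₁)) = 1 := by
      obtain ⟨t, ht⟩ : ∃ t, ζ t = d₁ * d₁ * (d₁ * d₁) := hζsurj _ (h.sq_center hd₁2)
      rw [← ht]; exact hζsq t
    have hidem : ∀ t : GaloisField 2 n, t ≠ 0 → ev (c x) t = t := by
      intro t ht
      obtain ⟨k, hk, hkd⟩ := h.trans.trans _ (ζ t) hd₁4 hd₁4c (fun h1 => ht (hζinj (h1.trans hζ0.symm))) (hζsq t)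
      set d' := k d₁ with hd'
      have hd'D : d' ∈ D := hDK k hk _ hd₁
      have hd'2 : d' * d' ∈ W := by rw [hd', ← map_mul]; exact hWK k hk _ hd₁2
      have hd'4 : d' * d' * (d' * d') = ζ t := by rw [hd', ← map_mul, ← map_mul, hkd]
      set u := ⁅x, d'⁆ with hu
      have huD : u ∈ D := hconjD x d'
      have h1 : u * u = ζ (ev (c x) t) := by
        rw [← hζc x _ hd'2 t hd'4]
        calc u * u = u * (d' * u * d'⁻¹) := by rw [hDcomm d' hd'D u huD]; group
          _ = ⁅x, d' * d'⁆ := by simp only [hu, commutatorElement_def]; group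
      have huW : u ∈ W := h.absorb hWK hZW hWne (fun a ha => Subgroup.mem_centralizer_iff.1 huD a ha)
        (h1 ▸ hζ _)
      have h2 : ζ (ev (c x) (ev (c x) t)) * (u * u) = 1 := by
        rw [← hζc x u huW _ h1]
        calc ⁅x, u⁆ * (u * u) = ⁅x * x, d'⁆ := by simp only [hu, commutatorElement_def]; group
          _ = 1 := commutatorElement_eq_one_iff_mul_comm.2 (hDcomm _ (hsqD x) _ hd'D)
      rw [h1, ← hζadd, ← hζ0] at h2
      have h3 := hζinj h2
      rw [← ev_add, hxc, ev_single] at h3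
      have h4 : ev (c x) t + t = 0 := by
        rw [hxc]
        rcases mul_eq_zero.1 h3 with h5 | h5
        · exact absurd h5 hs
        · exact eq_zero_of_pow_eq_zero h5
      exact (eq_neg_of_add_eq_zero_left h4).trans (CharTwo.neg_eq _)
    have h1 := hidem 1 one_ne_zero
    have h2 := hidem t₁ ht₁0
    rw [hxc, ev_single, one_pow, mul_one] at h1
    rw [hxc, ev_single, h1, one_mul] at h2
    exact ht₁1 (eq_one_of_pow 𝓒 hfree one_ne_zero (h1 ▸ hxc ▸ hmem𝓒 x) ht₁0 h2)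
  -- monomial elements square into the centre
  have hmsq : ∀ y b s, s ≠ 0 → c y = Pi.single b s → y * y ∈ Subgroup.center P := by
    intro y b s hs hy
    have hyW : y * y ∈ W := hDW (hsqD y)
    obtain ⟨t, ht⟩ := hζsurj (y * y * (y * y)) (h.sq_center hyW)
    have h1 := hζc y _ hyW t ht.symm
    rw [commutatorElement_eq_one_iff_mul_comm.2 (by group), hy, ev_single, ← hζ0] at h1
    have h2 : t = 0 := eq_zero_of_pow_eq_zero ((mul_eq_zero.1 (hζinj h1).symm).resolve_left hs)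
    rw [h2, hζ0] at ht
    exact h.mem_center_iff.2 ht.symm
  -- the squares of commutators of monomial elements
  have hcomm2 : ∀ x y, ∃ u, ⁅x, y⁆ * ⁅x, y⁆ = ζ u := fun x y => by
    have hcW : ⁅x, y⁆ ∈ W := hDW (hconjD x y)
    obtain ⟨t, ht⟩ := hζsurj (⁅x, y⁆ * ⁅x, y⁆) (h.sq_center hcW)
    exact ⟨t, ht.symm⟩
  choose U hU using hcomm2
  have hUadd : ∀ x y y', U x (y * y') = U x y + U x y' := fun x y y' => hζinj (by
    rw [hζadd, ← hU, ← hU, ← hU]
    have hb : ⁅x, y'⁆ ∈ W := hDW (hconjD x y')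
    have ha : ⁅x, y⁆ ∈ W := hDW (hconjD x y)
    set z := ⁅y, ⁅x, y'⁆⁆ with hz
    have hzc : z ∈ Subgroup.center P := comm_mem' hb y
    have h1 : ⁅x, y * y'⁆ = ⁅x, y⁆ * ⁅x, y'⁆ * z := by
      calc ⁅x, y * y'⁆ = ⁅x, y⁆ * (z * ⁅x, y'⁆) := by simp only [hz, commutatorElement_def]; group
        _ = _ := by rw [← Subgroup.mem_center_iff.1 hzc ⁅x, y'⁆, mul_assoc]
    rw [h1]
    calc ⁅x, y⁆ * ⁅x, y'⁆ * z * (⁅x, y⁆ * ⁅x, y'⁆ * z)
        = ⁅x, y⁆ * ⁅x, y'⁆ * (⁅x, y⁆ * ⁅x, y'⁆) * (z * z) := by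
          rw [mul_assoc (⁅x, y⁆ * ⁅x, y'⁆) z, ← mul_assoc z, ← Subgroup.mem_center_iff.1 hzc]; group
      _ = ⁅x, y⁆ * (⁅x, y'⁆ * ⁅x, y⁆) * ⁅x, y'⁆ := by rw [h.mem_center_iff.1 hzc]; group
      _ = _ := by rw [← hWc _ ha _ hb]; group)
  have hUswap : ∀ x y, U y x = U x y := fun x y => hζinj (by
    rw [← hU, ← commutatorElement_inv x y, ← mul_inv_rev, hU, inv_eq_of_mul_eq_one_left (hζsq _)])
  have hUfix : ∀ x y, y * y ∈ Subgroup.center P → ev (c y) (U x y) = U x y := by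
    intro x y hy
    have hcW : ⁅x, y⁆ ∈ W := hDW (hconjD x y)
    have h1 : ⁅y, ⁅x, y⁆⁆ * (⁅x, y⁆ * ⁅x, y⁆) = 1 := by
      rw [Subgroup.mem_center_iff.1 (Subgroup.mem_center_iff.2 fun g => Subgroup.mem_center_iff.1
        (comm_mem' hcW y) g) _ |>.symm]
      calc ⁅x, y⁆ * ⁅x, y⁆ * ⁅y, ⁅x, y⁆⁆ = ⁅x, y⁆ * (⁅y, ⁅x, y⁆⁆ * ⁅x, y⁆) := by
            rw [mul_assoc, Subgroup.mem_center_iff.1 (comm_mem' hcW y)]
        _ = ⁅x, y * y⁆ := by simp only [commutatorElement_def]; group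
        _ = 1 := commutatorElement_eq_one_iff_mul_comm.2 (Subgroup.mem_center_iff.1 hy x)
    rw [hζc y _ hcW _ (hU x y), hU, ← hζadd, ← hζ0] at h1
    exact (eq_neg_of_add_eq_zero_left (hζinj h1)).trans (CharTwo.neg_eq _)
  -- monomial elements commute modulo the centre
  have hU0 : ∀ x y b b' s s', s ≠ 0 → s' ≠ 0 → c x = Pi.single b s → c y = Pi.single b' s' → U x y = 0 := by
    intro x y b b' s s' hs hs' hx hy
    by_contra hu
    have hsx := hmsq x b s hs hx
    have key : ∀ y₂ s₂, s₂ ≠ 0 → c y₂ = Pi.single b' s₂ → U x y₂ ≠ 0 → U x y₂ = U x y ∧ s₂ = s' := by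
      intro y₂ s₂ hs₂ hy₂ hne
      have e1 : s * U x y ^ 2 ^ (b : ℕ) = U x y := by
        have := hUfix y x hsx; rwa [hUswap, hx, ev_single] at this
      have e2 : s * U x y₂ ^ 2 ^ (b : ℕ) = U x y₂ := by
        have := hUfix y₂ x hsx; rwa [hUswap, hx, ev_single] at this
      have he := uniq b s hs (hx ▸ hmem𝓒 x) _ _ hne hu e2 e1
      refine ⟨he, ?_⟩
      have f1 : s' * U x y ^ 2 ^ (b' : ℕ) = U x y := by
        have := hUfix x y (hmsq y b' s' hs' hy); rwa [hy, ev_single] at this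
      have f2 : s₂ * U x y₂ ^ 2 ^ (b' : ℕ) = U x y₂ := by
        have := hUfix x y₂ (hmsq y₂ b' s₂ hs₂ hy₂); rwa [hy₂, ev_single] at this
      rw [he] at f2
      exact mul_right_cancel₀ (pow_ne_zero _ hu) (f2.trans f1.symm)
    obtain ⟨k, hk, hks⟩ := hscal t₁ ht₁0
    set s₂ := s' * (t₁ * (t₁ ^ 2 ^ (b' : ℕ))⁻¹) with hs₂def
    have hy₂ : c (k y) = Pi.single b' s₂ := by rw [hequiv k hk t₁ ht₁0 hks, hy, tw_single]
    have hs₂0 : s₂ ≠ 0 := mul_ne_zero hs' (mul_ne_zero ht₁0 (inv_ne_zero (pow_ne_zero _ ht₁0)))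
    have hs₂s : s₂ ≠ s' := fun he => ht₁1 (by
      refine hfree t₁ ht₁0 _ (hy ▸ hmem𝓒 y) (fun h0 => hs' (by simpa using congrFun h0 b')) ?_
      rw [tw_single, ← hs₂def, he])
    have hy₃ : c (y * k y) = Pi.single b' (s' + s₂) := by rw [hcmul, hy, hy₂, Pi.single_add]
    have hs₃0 : s' + s₂ ≠ 0 := fun he => hs₂s ((eq_neg_of_add_eq_zero_right he).trans (CharTwo.neg_eq _))
    have h1 : U x (k y) = 0 := by
      by_contra hne; exact hs₂s (key _ _ hs₂0 hy₂ hne).2
    have h2 := (key _ _ hs₃0 hy₃ (by rw [hUadd, h1, add_zero]; exact hu)).2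
    exact hs₂0 (add_left_cancel (h2.trans (add_zero s').symm))
  -- monomial elements lie in the second centre
  let gens : Set P := (W : Set P) ∪ {y | ∃ b s, s ≠ 0 ∧ c y = Pi.single b s}
  have hgen : Subgroup.closure gens = ⊤ := by
    rw [eq_top_iff]
    intro g _
    have key : ∀ T : Finset (Fin n), ∃ y ∈ Subgroup.closure gens, c y = ∑ b ∈ T, Pi.single b (c g b) := by
      intro T
      induction T using Finset.induction_on with
      | empty => exact ⟨1, one_mem _, by simpa using (hcD 1).2 D.one_mem⟩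
      | insert j T hj ih =>
        obtain ⟨y, hy, hcy⟩ := ih
        by_cases h0 : c g j = 0
        · exact ⟨y, hy, by rw [Finset.sum_insert hj, h0, Pi.single_zero, zero_add, hcy]⟩
        · obtain ⟨w, hw⟩ := hsingle g j
          exact ⟨w * y, mul_mem (Subgroup.subset_closure (Or.inr ⟨j, _, h0, hw⟩)) hy,
            by rw [Finset.sum_insert hj, hcmul, hw, hcy]⟩
    obtain ⟨y, hy, hcy⟩ := key Finset.univ
    rw [Finset.univ_sum_single] at hcy
    have h1 : y⁻¹ * g ∈ D := (hcD _).1 (by rw [hcmul, hcinv, hcy, neg_add_cancel])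
    have h2 := mul_mem hy (Subgroup.subset_closure (k := gens) (Or.inl (hDW h1)))
    rwa [mul_inv_cancel_left] at h2
  have hxW : x ∈ W := by
    have hpre : ∀ g ∈ Subgroup.closure gens,
        (QuotientGroup.mk x : P ⧸ Subgroup.center P) * QuotientGroup.mk g = QuotientGroup.mk g * QuotientGroup.mk x := by
      intro g hg
      induction hg using Subgroup.closure_induction with
      | mem y hy =>
        rcases hy with hy | ⟨b', s', hs', hy⟩
        · exact (Subgroup.mem_center_iff.1 (show (QuotientGroup.mk y : P ⧸ Subgroup.center P) ∈ Subgroup.center _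
            from hy) _)
        · have h1 : ⁅x, y⁆ ∈ Subgroup.center P := h.mem_center_iff.2 (by
            rw [hU, hU0 x y b b' s s' hs hs' hxc hy, hζ0])
          rw [← QuotientGroup.eq_one_iff, commutatorElement_def] at h1
          simp only [QuotientGroup.mk_mul, QuotientGroup.mk_inv] at h1
          rw [mul_inv_eq_one, mul_inv_eq_iff_eq_mul] at h1
          exact h1
      | one => simp
      | mul a b _ _ ha hb => rw [QuotientGroup.mk_mul, ← mul_assoc, ha, mul_assoc, hb, mul_assoc]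
      | inv a _ ha => rw [QuotientGroup.mk_inv]; exact (Commute.inv_right ha : _)
    refine mem_secondCenter.2 fun g => ?_
    have h1 := hpre g (hgen ▸ Subgroup.mem_top g)
    rw [← QuotientGroup.eq_one_iff, commutatorElement_def]
    simp only [QuotientGroup.mk_mul, QuotientGroup.mk_inv]
    rw [h1]; group
  have := (hcD x).2 (hWD hxW)
  rw [hxc] at this
  exact hs (by simpa using congrFun this b)

theorem RegInvol.sq_mem_center (h : RegInvol K) (x : P) : x * x ∈ Subgroup.center P := by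
  classical
  by_cases hA : secondCenter P ⊓ Subgroup.centralizer (secondCenter P : Set P) ≤ Subgroup.center P
  · exact h.squares_of_sub kinv_secondCenter le_rfl center_le_secondCenter h.secondCenter_not_le
      (fun m hm hc => hA ⟨hm, Subgroup.mem_centralizer_iff.2 hc⟩) x
  · exfalso
    obtain ⟨a, ⟨haW, hac⟩, haZ⟩ := SetLike.not_le_iff_exists.1 hA
    refine h.secondCenter_not_comm fun u hu v hv => ?_
    have hAK : KInv K (secondCenter P ⊓ Subgroup.centralizer (secondCenter P : Set P)) := fun k hk y hy =>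
      ⟨kinv_secondCenter k hk y hy.1, kinv_secondCenter.centralizer k hk y hy.2⟩
    have hin : ∀ w ∈ secondCenter P,
        w ∈ Subgroup.centralizer ((secondCenter P ⊓ Subgroup.centralizer (secondCenter P : Set P) : Subgroup P) : Set P) :=
      fun w hw => Subgroup.mem_centralizer_iff.2 fun y hy => (Subgroup.mem_centralizer_iff.1 hy.2 w hw).symm
    exact h.centralizer_comm hAK ⟨haW, hac⟩ haZ (fun b hb => Subgroup.mem_centralizer_iff.1 hac b hb.1) u
      (hin u hu) v (hin v hv)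

theorem RegInvol.comm_mem_center (h : RegInvol K) (x y : P) : ⁅x, y⁆ ∈ Subgroup.center P := by
  have h1 : ⁅x, y⁆ = x * x * (x⁻¹ * y * (x⁻¹ * y)) * (y * y)⁻¹ := by
    simp only [commutatorElement_def]; group
  rw [h1]
  exact Subgroup.mul_mem _ (Subgroup.mul_mem _ (h.sq_mem_center _) (h.sq_mem_center _))
    (Subgroup.inv_mem _ (h.sq_mem_center _))

end Cfsg.Agent.Lib.Suzuki2.ClassTwo
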