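import Mathlib

/-!
# Additive subgroups of `End (GF(2^n), +)` invariant and fixed-point-free under conjugation by scalars

Such a subgroup is spanned by the monomials `z ↦ c z^(2^b)` it contains.
-/

set_option autoImplicit false
set_option linter.unusedSectionVars false
set_option linter.style.haveILetI false

namespace Cfsg.Agent.Lib.Suzuki2.ClassTwo

variable {F : Type*} [Field F] [Fintype F] [CharP F 2] {n : ℕ}

/-- The additive map with coefficient vector `c`. -/
def ev (c : Fin n → F) (z : F) : F := ∑ b, c b * z ^ 2 ^ (b : ℕ)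

theorem ev_add (c : Fin n → F) (z w : F) : ev c (z + w) = ev c z + ev c w := by
  simp only [ev, add_pow_char_pow, mul_add, Finset.sum_add_distrib]

theorem ev_add_left (c d : Fin n → F) (z : F) : ev (c + d) z = ev c z + ev d z := by
  simp only [ev, Pi.add_apply, add_mul, Finset.sum_add_distrib]

theorem ev_single (b : Fin n) (s z : F) : ev (Pi.single b s) z = s * z ^ 2 ^ (b : ℕ) := by
  rw [ev, Finset.sum_eq_single b]
  · simp
  · intro j _ hj; simp [Pi.single_eq_of_ne hj]
  · simp

/-- A unit of order `2 ^ n - 1`. -/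
theorem exists_gen (hF : Fintype.card F = 2 ^ n) : ∃ g : Fˣ, orderOf g = 2 ^ n - 1 := by
  obtain ⟨g, hg⟩ := IsCyclic.exists_generator (α := Fˣ)
  exact ⟨g, by rw [orderOf_eq_card_of_forall_mem_zpowers hg, Nat.card_units, Nat.card_eq_fintype_card, hF]⟩

theorem pow_inj (hF : Fintype.card F = 2 ^ n) {b b' : Fin n}
    (h : ∀ z : F, z ^ 2 ^ (b : ℕ) = z ^ 2 ^ (b' : ℕ)) : b = b' := by
  obtain ⟨g, hg⟩ := exists_gen hF
  have h1 : g ^ 2 ^ (b : ℕ) = g ^ 2 ^ (b' : ℕ) := by ext; simpa using h g
  by_cases hn1 : n = 1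
  · subst hn1; exact Subsingleton.elim _ _
  have hlt : ∀ j : Fin n, 2 ^ (j : ℕ) < 2 ^ n - 1 := fun j => by
    have := Nat.pow_le_pow_right (show 0 < 2 by norm_num) (show (j : ℕ) + 1 ≤ n from j.2)
    rw [pow_succ] at this
    rcases Nat.eq_zero_or_pos (j : ℕ) with h0 | h0
    · have h4 := Nat.pow_le_pow_right (show 0 < 2 by norm_num) (show 2 ≤ n by omega)
      rw [h0]; norm_num at h4 ⊢; omega
    · have h2 := Nat.one_lt_pow h0.ne' (show 1 < 2 by norm_num)
      omega
  exact Fin.ext (Nat.pow_right_injective le_rfl (pow_injOn_Iio_orderOf (by simpa [hg] using hlt b)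
    (by simpa [hg] using hlt b') h1))

theorem ev_injective (hF : Fintype.card F = 2 ^ n) {c : Fin n → F} (h : ∀ z, ev c z = 0) : c = 0 := by
  let φ : Fin n → (F →* F) := fun b => powMonoidHom (2 ^ (b : ℕ))
  have hφ : Function.Injective φ := fun b b' hb => pow_inj hF fun z => DFunLike.congr_fun hb z
  have li := (linearIndependent_monoidHom F F).comp φ hφ
  rw [Fintype.linearIndependent_iff] at li
  refine funext fun b => li c (funext fun z => ?_) b
  simpa [ev, φ, Finset.sum_apply] using h z

theorem ev_surjective (hF : Fintype.card F = 2 ^ n) (f : F → F) (hf : ∀ z w, f (z + w) = f z + f w) :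
    ∃ c : Fin n → F, ∀ z, ev c z = f z := by
  haveI : Fact (Nat.Prime 2) := ⟨Nat.prime_two⟩
  letI := ZMod.algebra F 2
  have hfr : Module.finrank (ZMod 2) F = n := by
    have h := Module.card_eq_pow_finrank (K := ZMod 2) (V := F)
    rw [hF, ZMod.card] at h
    exact (Nat.pow_right_injective le_rfl h).symm
  let lin : ∀ g : F → F, (∀ z w, g (z + w) = g z + g w) → F →ₗ[ZMod 2] F := fun g hg =>
    (AddMonoidHom.mk' g hg).toZModLinearMap 2
  let Φ : (Fin n → F) → (F →ₗ[ZMod 2] F) := fun c => lin (ev c) (ev_add c)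
  have hinj : Function.Injective Φ := fun c d hcd => by
    refine sub_eq_zero.1 (ev_injective hF fun z => ?_)
    have h1 : ev c z = ev d z := DFunLike.congr_fun hcd z
    have h2 := ev_add_left (c - d) d z
    rw [sub_add_cancel, h1] at h2
    simpa using h2
  haveI : Finite (F →ₗ[ZMod 2] F) := Finite.of_injective (fun l : F →ₗ[ZMod 2] F => (l : F → F))
    DFunLike.coe_injective
  have hcard : Nat.card (Fin n → F) = Nat.card (F →ₗ[ZMod 2] F) := by
    rw [Nat.card_fun, Module.natCard_eq_pow_finrank (K := ZMod 2) (V := F →ₗ[ZMod 2] F),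
      Module.finrank_linearMap, hfr, Nat.card_zmod, Nat.card_eq_fintype_card, hF, Nat.card_eq_fintype_card,
      Fintype.card_fin, ← pow_mul]
  obtain ⟨c, hc⟩ := (hinj.bijective_of_nat_card_le hcard.ge).2 (lin f hf)
  exact ⟨c, fun z => DFunLike.congr_fun hc z⟩

/-- Conjugation of coefficient vectors by the scalar `t`. -/
def tw (t : F) (c : Fin n → F) : Fin n → F := fun b => c b * (t * (t ^ 2 ^ (b : ℕ))⁻¹)

theorem ev_tw (t : F) (c : Fin n → F) (z : F) : ev (tw t c) z = t * ev c (t⁻¹ * z) := by
  simp only [ev, tw, Finset.mul_sum, mul_pow, inv_pow]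
  exact Finset.sum_congr rfl fun b _ => by ring

theorem tw_add (t : F) (c d : Fin n → F) : tw t (c + d) = tw t c + tw t d := by
  funext b; simp [tw, add_mul]

theorem tw_single (t : F) (b : Fin n) (s : F) :
    tw t (Pi.single b s) = Pi.single b (s * (t * (t ^ 2 ^ (b : ℕ))⁻¹)) := by
  funext j
  by_cases hj : j = b
  · subst hj; simp [tw]
  · simp [tw, hj]

theorem tw_mul (t u : F) (c : Fin n → F) : tw t (tw u c) = tw (t * u) c := by
  funext b; simp only [tw, mul_pow, mul_inv]; ring

/-- Two-bit representations of residues modulo `2 ^ n - 1` are unique. -/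
theorem two_bits {i j k l : ℕ} (hi : i < n) (hj : j < n) (hk : k < n) (hl : l < n)
    (h : (2 ^ i + 2 ^ j : ℕ) ≡ 2 ^ k + 2 ^ l [MOD 2 ^ n - 1]) : (i = k ∧ j = l) ∨ (i = l ∧ j = k) := by
  have hb : ∀ a b, a < n → b < n → 2 ≤ 2 ^ a + 2 ^ b ∧ 2 ^ a + 2 ^ b ≤ 2 ^ n := by
    intro a b ha hb
    have h1 := Nat.pow_le_pow_right (show 0 < 2 by norm_num) (show a + 1 ≤ n from ha)
    have h2 := Nat.pow_le_pow_right (show 0 < 2 by norm_num) (show b + 1 ≤ n from hb)
    have := Nat.one_le_two_pow (n := a)
    have := Nat.one_le_two_pow (n := b)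
    rw [pow_succ] at h1 h2
    omega
  have heq : 2 ^ i + 2 ^ j = 2 ^ k + 2 ^ l := by
    obtain ⟨h1, h2⟩ := hb i j hi hj
    obtain ⟨h3, h4⟩ := hb k l hk hl
    rcases le_total (2 ^ i + 2 ^ j) (2 ^ k + 2 ^ l) with hle | hle
    · have hd := (Nat.modEq_iff_dvd' hle).1 h
      have := Nat.eq_zero_of_dvd_of_lt hd (by omega)
      omega
    · have hd := (Nat.modEq_iff_dvd' hle).1 h.symm
      have := Nat.eq_zero_of_dvd_of_lt hd (by omega)
      omega
  -- compare after ordering
  have key : ∀ a b c d : ℕ, a ≤ b → c ≤ d → 2 ^ a + 2 ^ b = 2 ^ c + 2 ^ d → a = c ∧ b = d := by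
    intro a b c d hab hcd e
    have hbd : b = d := by
      rcases lt_trichotomy b d with hlt | he | hlt
      · exfalso
        have h1 := Nat.pow_le_pow_right (show 0 < 2 by norm_num) (show b + 1 ≤ d from hlt)
        have h2 := Nat.pow_le_pow_right (show 0 < 2 by norm_num) hab
        have := Nat.one_le_two_pow (n := c)
        rw [pow_succ] at h1; omega
      · exact he
      · exfalso
        have h1 := Nat.pow_le_pow_right (show 0 < 2 by norm_num) (show d + 1 ≤ b from hlt)
        have h2 := Nat.pow_le_pow_right (show 0 < 2 by norm_num) hcd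
        have := Nat.one_le_two_pow (n := a)
        rw [pow_succ] at h1; omega
    subst hbd
    exact ⟨Nat.pow_right_injective le_rfl (Nat.add_right_cancel e), rfl⟩
  rcases le_total i j with hij | hij <;> rcases le_total k l with hkl | hkl
  · exact Or.inl (key i j k l hij hkl heq)
  · exact Or.inr (key i j l k hij hkl (by omega))
  · exact Or.inr ((key j i k l hij hkl (by omega)).symm)
  · exact Or.inl ((key j i l k hij hkl (by omega)).symm)

theorem mod_pow (b : ℕ) : (2 : ℕ) ^ b ≡ 2 ^ (b % n) [MOD 2 ^ n - 1] := by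
  have h1 : (2 : ℕ) ^ n ≡ 1 [MOD 2 ^ n - 1] := ((Nat.modEq_iff_dvd' Nat.one_le_two_pow).2 dvd_rfl).symm
  conv_lhs => rw [← Nat.div_add_mod b n, pow_add, pow_mul]
  simpa using (h1.pow (b / n)).mul_right (2 ^ (b % n))

/-- The characters `t ↦ t / t^(2^b)` with `b ≠ 0` are pairwise non-conjugate. -/
theorem char_inj (hF : Fintype.card F = 2 ^ n) {b b' : Fin n} (hb' : (b' : ℕ) ≠ 0) {i : ℕ}
    (h : ∀ t : F, t ≠ 0 → (t * (t ^ 2 ^ (b : ℕ))⁻¹) ^ 2 ^ i = t * (t ^ 2 ^ (b' : ℕ))⁻¹) : b = b' := by
  obtain ⟨g, hg⟩ := exists_gen hF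
  have h1 := h g g.ne_zero
  have h2 : (g : F) ^ (2 ^ i + 2 ^ (b' : ℕ)) = (g : F) ^ (1 + 2 ^ ((b : ℕ) + i)) := by
    rw [mul_pow, inv_pow, ← pow_mul, ← pow_add] at h1
    field_simp at h1
    rw [pow_add, pow_add, pow_one, mul_comm]
    linear_combination h1
  have h3 : g ^ (2 ^ i + 2 ^ (b' : ℕ)) = g ^ (1 + 2 ^ ((b : ℕ) + i)) := by ext; simpa using h2
  rw [pow_eq_pow_iff_modEq, hg] at h3
  have hn : 0 < n := Nat.pos_of_ne_zero fun h0 => by have := b.2; omega
  have h4 : 2 ^ (i % n) + 2 ^ (b' : ℕ) ≡ 2 ^ 0 + 2 ^ (((b : ℕ) + i) % n) [MOD 2 ^ n - 1] :=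
    (((mod_pow (n := n) i).add_right _).symm.trans h3).trans (by simpa using (mod_pow (n := n) _).add_left 1)
  rcases two_bits (Nat.mod_lt _ hn) b'.2 hn (Nat.mod_lt _ hn) h4 with ⟨e1, e2⟩ | ⟨-, e2⟩
  · apply Fin.ext
    rw [e2, Nat.add_mod, e1, add_zero, Nat.mod_mod, Nat.mod_eq_of_lt b.2]
  · exact absurd e2 hb'

/-- A multiplicative additive self-map of `F` is a power of Frobenius. -/
theorem exists_frobenius (f : F →+* F) : ∃ i : ℕ, ∀ x, f x = x ^ 2 ^ i := by
  haveI : Fact (Nat.Prime 2) := ⟨Nat.prime_two⟩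
  letI := ZMod.algebra F 2
  let fA : F →ₐ[ZMod 2] F := { f with
    commutes' := fun r =>
      DFunLike.congr_fun (Subsingleton.elim (f.comp (algebraMap (ZMod 2) F)) (algebraMap (ZMod 2) F)) r }
  obtain ⟨i, hi⟩ := (FiniteField.bijective_frobeniusAlgHom_pow (ZMod 2) F).2 fA
  refine ⟨i, fun x => ?_⟩
  rw [show f x = fA x from rfl, ← hi]
  simp only [AlgHom.coe_pow, FiniteField.coe_frobeniusAlgHom, pow_iterate, ZMod.card]

/-- An invariant fixed-point-free subgroup contains the monomial parts of its elements. -/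
theorem single_mem (hF : Fintype.card F = 2 ^ n) (𝓒 : AddSubgroup (Fin n → F))
    (hinv : ∀ t : F, t ≠ 0 → ∀ c ∈ 𝓒, tw t c ∈ 𝓒)
    (hfree : ∀ t : F, t ≠ 0 → ∀ c ∈ 𝓒, c ≠ 0 → tw t c = c → t = 1) :
    ∀ c ∈ 𝓒, ∀ b : Fin n, Pi.single b (c b) ∈ 𝓒 := by
  classical
  suffices ∀ m, ∀ c ∈ 𝓒, (Finset.univ.filter fun b => c b ≠ 0).card = m → ∀ b, Pi.single b (c b) ∈ 𝓒 from
    fun c hc => this _ c hc rfl
  intro m
  induction m using Nat.strong_induction_on with
  | _ m ih =>
    intro c hc hm b
    by_cases hb : c b = 0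
    · rw [hb, Pi.single_zero]; exact 𝓒.zero_mem
    -- the orbit span of `c`
    set 𝓓 := AddSubgroup.closure {d | ∃ t : F, t ≠ 0 ∧ tw t c = d} with h𝓓
    have hD : 𝓓 ≤ 𝓒 := by
      rw [h𝓓, AddSubgroup.closure_le]
      rintro _ ⟨t, ht, rfl⟩
      exact hinv t ht c hc
    have hsupp : ∀ d ∈ 𝓓, ∀ j, c j = 0 → d j = 0 := by
      intro d hd j hj
      induction hd using AddSubgroup.closure_induction with
      | mem x hx => obtain ⟨t, -, rfl⟩ := hx; simp [tw, hj]
      | zero => rfl
      | add x y _ _ hx hy => simp [hx, hy]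
      | neg x _ hx => simp [hx]
    -- whole lines at `j`
    have line : ∀ (j : Fin n) (s : F), s ≠ 0 → Pi.single j s ∈ 𝓒 → ∀ r : F, Pi.single j r ∈ 𝓒 := by
      intro j s hs hmem r
      by_cases hr : r = 0
      · rw [hr, Pi.single_zero]; exact 𝓒.zero_mem
      let g : Fˣ → Fˣ := fun t => t * (t ^ 2 ^ (j : ℕ))⁻¹
      have hg : Function.Injective g := fun t u htu => by
        have h1 : tw ((t * u⁻¹ : Fˣ) : F) (Pi.single j s) = Pi.single j s := by
          rw [tw_single]
          congr 1
          have h2 : g (t * u⁻¹) = 1 := by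
            have h5 : g (t * u⁻¹) = g t * (g u)⁻¹ := by
              simp only [g, mul_pow, mul_inv, inv_pow, inv_inv]
              exact mul_mul_mul_comm _ _ _ _
            rw [h5, htu, mul_inv_cancel]
          have h3 : ((g (t * u⁻¹) : Fˣ) : F) = 1 := by rw [h2]; rfl
          simp only [g, Units.val_mul, Units.val_inv_eq_inv_val, Units.val_pow_eq_pow_val] at h3 ⊢
          rw [h3, mul_one]
        have h4 := hfree _ (Units.ne_zero _) _ hmem (fun h => hs (by simpa using congrFun h j)) h1
        exact mul_inv_eq_one.1 (Units.ext h4)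
      obtain ⟨t, ht⟩ := (Finite.injective_iff_surjective.1 hg) (Units.mk0 r hr * (Units.mk0 s hs)⁻¹)
      have h5 : (t : F) * ((t : F) ^ 2 ^ (j : ℕ))⁻¹ = r * s⁻¹ := by
        have := congrArg (fun x : Fˣ => (x : F)) ht
        simpa [g] using this
      have h6 := hinv t t.ne_zero _ hmem
      rwa [tw_single, h5, mul_left_comm, mul_inv_cancel₀ hs, mul_one] at h6
    by_cases hfull : ∀ d ∈ 𝓓, d b = 0 → d = 0
    · -- all non-zero elements of the span are non-zero at `b`
      let ψ : 𝓓 →+ F := { toFun := fun d => d.1 b, map_zero' := rfl, map_add' := fun _ _ => rfl }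
      have hψ : Function.Injective ψ := (injective_iff_map_eq_zero ψ).2 fun d hd => Subtype.ext (hfull d d.2 hd)
      have hcD : c ∈ 𝓓 := AddSubgroup.subset_closure ⟨1, one_ne_zero, by funext j; simp [tw]⟩
      have hc0 : c ≠ 0 := fun h => hb (by simp [h])
      let α : Fˣ → Fˣ := fun t => t * (t ^ 2 ^ (b : ℕ))⁻¹
      have hαval : ∀ t : Fˣ, (α t : F) = (t : F) * ((t : F) ^ 2 ^ (b : ℕ))⁻¹ := fun t => by
        simp [α]
      have horb : ∀ t : Fˣ, tw (t : F) c ∈ 𝓓 := fun t => AddSubgroup.subset_closure ⟨t, t.ne_zero, rfl⟩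
      have hα : Function.Bijective α := by
        refine Finite.injective_iff_bijective.1 fun t u htu => ?_
        have h1 : tw (t : F) c = tw (u : F) c := by
          have : (⟨_, horb t⟩ : 𝓓) = ⟨_, horb u⟩ := hψ (by
            show c b * _ = c b * _
            rw [← hαval, ← hαval, htu])
          exact congrArg Subtype.val this
        have h2 : tw ((u⁻¹ * t : Fˣ) : F) c = c := by
          rw [Units.val_mul, ← tw_mul, h1, tw_mul, ← Units.val_mul, inv_mul_cancel]
          funext j; simp [tw]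
        exact (inv_mul_eq_one.1 (Units.ext (hfree _ (Units.ne_zero _) c hc hc0 h2))).symm
      have hψs : Function.Surjective ψ := fun r => by
        by_cases hr : r = 0
        · exact ⟨0, by rw [hr]; rfl⟩
        obtain ⟨t, ht⟩ := hα.2 (Units.mk0 r hr * (Units.mk0 (c b) hb)⁻¹)
        refine ⟨⟨_, horb t⟩, ?_⟩
        show c b * _ = r
        rw [← hαval, ht]
        simp only [Units.val_mul, Units.val_inv_eq_inv_val, Units.val_mk0]
        field_simp
      let e : 𝓓 ≃+ F := AddEquiv.ofBijective ψ ⟨hψ, hψs⟩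
      by_cases hone : ∀ j, j ≠ b → c j = 0
      · have : Pi.single b (c b) = c := by
          funext j
          by_cases hj : j = b
          · subst hj; simp
          · simp [hj, hone j hj]
        rwa [this]
      exfalso
      push Not at hone
      obtain ⟨b', hb'b, hb'⟩ := hone
      -- one of `b`, `b'` is non-zero
      have htw : ∀ t : Fˣ, e.symm (c b * α t) = ⟨tw (t : F) c, horb t⟩ := fun t =>
        e.symm_apply_eq.2 (by show c b * _ = c b * _; rw [hαval])
      let f₀ : F →+ F :=
        { toFun := fun r => (e.symm (c b * r)).1 b' * (c b')⁻¹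
          map_zero' := by simp
          map_add' := fun r s => by simp [mul_add, add_mul] }
      have hf : ∀ t : Fˣ, f₀ (α t) = (t : F) * ((t : F) ^ 2 ^ (b' : ℕ))⁻¹ := fun t => by
        show (e.symm (c b * α t)).1 b' * (c b')⁻¹ = _
        rw [htw]
        show c b' * _ * (c b')⁻¹ = _
        field_simp
      have hf1 : f₀ 1 = 1 := by
        have := hf 1
        simpa [α] using this
      have hfmul : ∀ r s, f₀ (r * s) = f₀ r * f₀ s := by
        intro r s
        by_cases hr : r = 0
        · simp [hr]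
        by_cases hs : s = 0
        · simp [hs]
        obtain ⟨t, ht⟩ := hα.2 (Units.mk0 r hr)
        obtain ⟨u, hu⟩ := hα.2 (Units.mk0 s hs)
        have hr' : r = (α t : F) := by rw [ht]; rfl
        have hs' : s = (α u : F) := by rw [hu]; rfl
        have hrs : r * s = (α (t * u) : F) := by
          rw [hr', hs', hαval, hαval, hαval, Units.val_mul, mul_pow, mul_inv]; ring
        rw [hrs, hf, hr', hs', hf, hf, Units.val_mul, mul_pow, mul_inv]
        ring
      obtain ⟨i, hi⟩ := exists_frobenius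
        ({ f₀ with map_one' := hf1, map_mul' := hfmul } : F →+* F)
      have hrel : ∀ t : F, t ≠ 0 → (t * (t ^ 2 ^ (b : ℕ))⁻¹) ^ 2 ^ i = t * (t ^ 2 ^ (b' : ℕ))⁻¹ := by
        intro t ht
        have h1 := (hi (α (Units.mk0 t ht))).symm.trans (hf (Units.mk0 t ht))
        simpa [hαval] using h1
      by_cases hb0 : (b' : ℕ) = 0
      · -- then `b` is not, and the character at `b'` is trivial
        obtain ⟨g, hg⟩ := exists_gen hF
        have h1 := hrel g g.ne_zero
        rw [hb0, pow_zero, pow_one, mul_inv_cancel₀ g.ne_zero] at h1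
        have h2 : (α g : F) = 1 := by
          rw [← hαval] at h1
          have h7 : α g ^ 2 ^ i = 1 := Units.ext (by simpa using h1)
          have h8 : (orderOf (α g)).Coprime 2 := by
            refine Nat.Coprime.coprime_dvd_left (orderOf_dvd_card (x := α g)) ?_
            classical
            rw [Fintype.card_units, hF]
            refine Nat.coprime_two_right.2 ⟨2 ^ (n - 1) - 1, ?_⟩
            have := b.2
            have h9 : 2 ^ n = 2 * 2 ^ (n - 1) := by rw [← pow_succ', show n - 1 + 1 = n by omega]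
            have := Nat.one_le_two_pow (n := n - 1)
            omega
          rw [orderOf_eq_one_iff.1 (Nat.eq_one_of_dvd_coprimes (h8.pow_right i) dvd_rfl
            (orderOf_dvd_of_pow_eq_one h7))]
          rfl
        have h3 : g = 1 := hα.1 (Units.ext (by rw [h2]; simp [α]))
        have h4 : b = b' := by
          have hn : n ≤ 1 := by
            by_contra hn
            rw [h3, orderOf_one] at hg
            have := Nat.pow_le_pow_right (show 0 < 2 by norm_num) (show 2 ≤ n by omega)
            omega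
          exact Fin.ext (by have := b.2; have := b'.2; omega)
        exact hb'b h4.symm
      · exact hb'b (char_inj hF hb0 hrel).symm
    · -- some element of the span is zero at `b`
      push Not at hfull
      obtain ⟨d, hd, hdb, hd0⟩ := hfull
      obtain ⟨j, hj⟩ : ∃ j, d j ≠ 0 := by
        by_contra hall; push Not at hall; exact hd0 (funext hall)
      have hcj : c j ≠ 0 := fun h => hj (hsupp d hd j h)
      have hlt : (Finset.univ.filter fun b => d b ≠ 0).card < m := by
        rw [← hm]
        refine Finset.card_lt_card ?_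
        rw [Finset.ssubset_iff_of_subset (fun x hx => by
          simp only [Finset.mem_filter, Finset.mem_univ, true_and] at hx ⊢
          exact fun h => hx (hsupp d hd x h))]
        exact ⟨b, by simpa using hb, by simp [hdb]⟩
      have hjmem := line j _ hj (ih _ hlt d (hD hd) rfl j) (c j)
      have hjb : j ≠ b := fun h => hj (h ▸ hdb)
      have hlt' : (Finset.univ.filter fun x => (c - Pi.single j (c j) : Fin n → F) x ≠ 0).card < m := by
        rw [← hm]
        refine Finset.card_lt_card ?_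
        rw [Finset.ssubset_iff_of_subset (fun x hx => by
          simp only [Finset.mem_filter, Finset.mem_univ, true_and] at hx ⊢
          intro h
          apply hx
          by_cases hxj : x = j
          · subst hxj; simp
          · simp [hxj, h])]
        exact ⟨j, by simpa using hcj, by simp⟩
      have h := ih _ hlt' _ (𝓒.sub_mem hc hjmem) rfl b
      simpa [hjb.symm] using h

/-- Fixed-point-freeness at a single monomial. -/
theorem eq_one_of_pow (𝓒 : AddSubgroup (Fin n → F))
    (hfree : ∀ t : F, t ≠ 0 → ∀ c ∈ 𝓒, c ≠ 0 → tw t c = c → t = 1) {b : Fin n} {s : F} (hs : s ≠ 0)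
    (hmem : Pi.single b s ∈ 𝓒) {t : F} (ht : t ≠ 0) (h : t ^ 2 ^ (b : ℕ) = t) : t = 1 := by
  refine hfree t ht _ hmem (fun h0 => hs (by simpa using congrFun h0 b)) ?_
  rw [tw_single, h, mul_inv_cancel₀ ht, mul_one]

end Cfsg.Agent.Lib.Suzuki2.ClassTwo
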