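import Cfsg.Agent.Lib.Suzuki2.FieldModel
import Cfsg.Agent.Lib.Suzuki2.ClassTwo.Monomial

/-!
# Squares are central in Suzuki 2-groups
-/

set_option autoImplicit false
set_option linter.unusedSectionVars false
set_option linter.style.haveILetI false

namespace Cfsg.Agent.Lib.Suzuki2.ClassTwo

open Cfsg.Agent.Lib.Suzuki2.Basic
open scoped commutatorElement

/-- A commutative group of automorphisms permuting the involutions of a non-commutative 2-group
with more than one involution regularly. -/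
structure RegInvol {P : Type*} [Group P] (K : Subgroup (MulAut P)) : Prop where
  pgroup : IsPGroup 2 P
  trans : TransInvol K
  reg : ∀ k ∈ K, ∀ x : P, x ≠ 1 → x * x = 1 → k x = x → k = 1
  nc : ∃ x y : P, x * y ≠ y * x
  two : ∃ x y : P, x ≠ y ∧ x ≠ 1 ∧ x * x = 1 ∧ y ≠ 1 ∧ y * y = 1

variable {P : Type*} [Group P] [Finite P] {K : Subgroup (MulAut P)}

theorem RegInvol.mem_center_iff (h : RegInvol K) {x : P} : x ∈ Subgroup.center P ↔ x * x = 1 :=
  ⟨fun hx => center_sq_eq_one h.pgroup h.trans h.nc hx, fun hx => involution_central h.pgroup h.trans hx⟩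

theorem RegInvol.free (h : RegInvol K) {k : MulAut P} (hk : k ∈ K) {x : P} (hx : x ≠ 1) (hkx : k x = x) :
    k = 1 := by
  obtain ⟨j, hj1, hj⟩ := exists_involution_pow h.pgroup hx
  exact h.reg k hk _ hj1 hj (by rw [map_pow, hkx])

/-- `A` is invariant under `K`. -/
def KInv (K : Subgroup (MulAut P)) (A : Subgroup P) : Prop := ∀ k ∈ K, ∀ x ∈ A, k x ∈ A

theorem kinv_center : KInv K (Subgroup.center P) := fun k _ _ hx => apply_center k hx

theorem KInv.centralizer {A : Subgroup P} (hA : KInv K A) : KInv K (Subgroup.centralizer (A : Set P)) := by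
  intro k hk x hx
  rw [Subgroup.mem_centralizer_iff] at hx ⊢
  intro a ha
  have h1 := congrArg (fun v => k v) (hx (k⁻¹ a) (hA _ (K.inv_mem hk) a ha))
  simpa using h1

theorem RegInvol.free_coset (h : RegInvol K) {A : Subgroup P} (hA : KInv K A) {k : MulAut P} (hk : k ∈ K)
    {x : P} (hx : x ∉ A) (hkx : x⁻¹ * k x ∈ A) : k = 1 := by
  classical
  haveI : Fact (Nat.Prime 2) := ⟨Nat.prime_two⟩
  by_contra hne
  haveI : Finite (MulAut P) := Finite.of_injective (fun a : MulAut P => (a : P → P)) DFunLike.coe_injective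
  have hodd : Odd (orderOf k) := by
    obtain ⟨z, -, -, hz1, hz, -⟩ := h.two
    let e : K → {y : P // y ≠ 1 ∧ y * y = 1} := fun l => ⟨(l : MulAut P) z,
      fun he => hz1 ((l : MulAut P).injective (he.trans (map_one _).symm)),
      by rw [← map_mul, hz, map_one]⟩
    have he : Function.Bijective e := by
      refine ⟨fun l m hlm => ?_, fun y => ?_⟩
      · have h1 : (l : MulAut P) z = (m : MulAut P) z := congrArg Subtype.val hlm
        have h2 := h.free (K.mul_mem (K.inv_mem m.2) l.2) hz1 (by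
          rw [MulAut.mul_apply, h1, MulAut.inv_apply_self])
        exact (inv_mul_eq_one.1 (Subtype.ext h2 : (m⁻¹ * l : K) = 1)).symm
      · obtain ⟨l, hl, hly⟩ := h.trans.trans z y.1 hz1 hz y.2.1 y.2.2
        exact ⟨⟨l, hl⟩, Subtype.ext hly⟩
    obtain ⟨n, hn⟩ := IsPGroup.iff_card.1 (h.pgroup.to_subgroup (Subgroup.center P))
    letI := Fintype.ofFinite P
    have hcard : Nat.card K = 2 ^ n - 1 := by
      rw [Nat.card_congr (Equiv.ofBijective e he), ← hn]
      rw [Nat.card_eq_fintype_card, Nat.card_eq_fintype_card, Fintype.card_subtype, Fintype.card_subtype]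
      have : (Finset.univ.filter fun y : P => y ≠ 1 ∧ y * y = 1) =
          (Finset.univ.filter fun y : P => y ∈ Subgroup.center P).erase 1 := by
        ext y; simp [h.mem_center_iff]
      rw [this, Finset.card_erase_of_mem (by simp)]
    have hd : orderOf k ∣ Nat.card K := by
      have h5 := orderOf_dvd_natCard (⟨k, hk⟩ : K)
      rwa [← Subgroup.orderOf_coe] at h5
    rw [hcard] at hd
    refine Odd.of_dvd_nat ?_ hd
    rcases Nat.eq_zero_or_pos n with h0 | h0
    · subst h0
      rw [pow_zero, Subgroup.card_eq_one] at hn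
      exact absurd (by rw [← Subgroup.mem_bot, ← hn]; exact h.mem_center_iff.2 hz : z = 1) hz1
    · refine ⟨2 ^ (n - 1) - 1, ?_⟩
      have h9 : 2 ^ n = 2 * 2 ^ (n - 1) := by rw [← pow_succ', show n - 1 + 1 = n by omega]
      have := Nat.one_le_two_pow (n := n - 1)
      omega
  obtain ⟨r, hr, hrdvd⟩ := Nat.exists_prime_and_dvd (fun h1 => hne (orderOf_eq_one_iff.1 h1))
  haveI : Fact r.Prime := ⟨hr⟩
  set l := k ^ (orderOf k / r) with hl
  have hlo : orderOf l = r := orderOf_pow_orderOf_div (orderOf_pos k).ne' hrdvd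
  have hstep : ∀ m : ℕ, x⁻¹ * (k ^ m) x ∈ A := by
    intro m
    induction m with
    | zero => simp
    | succ m ih =>
      have := A.mul_mem hkx (hA k hk _ ih)
      rw [map_mul, map_inv] at this
      simpa [pow_succ', mul_assoc] using this
  have hlK : l ∈ K := K.pow_mem hk _
  let C := {y : P // x⁻¹ * y ∈ A}
  have hinv : ∀ g ∈ Subgroup.zpowers l, ∀ y : C, x⁻¹ * g y.1 ∈ A := by
    intro g hg y
    obtain ⟨i, rfl⟩ := mem_powers_iff_mem_zpowers.2 hg
    show x⁻¹ * (l ^ i) y.1 ∈ A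
    have h1 := A.mul_mem (hstep (orderOf k / r * i)) (hA _ (K.pow_mem hlK i) _ y.2)
    rw [pow_mul, ← hl, map_mul, map_inv] at h1
    simpa [mul_assoc] using h1
  letI : MulAction (Subgroup.zpowers l) C :=
    { smul := fun g y => ⟨(g : MulAut P) y.1, hinv g g.2 y⟩
      one_smul := fun y => rfl
      mul_smul := fun g g' y => rfl }
  have hcardC : ¬ r ∣ Nat.card C := by
    rw [Nat.card_congr (show C ≃ A from
      { toFun := fun y => ⟨_, y.2⟩
        invFun := fun a => ⟨x * a.1, by simp⟩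
        left_inv := fun y => Subtype.ext (by simp)
        right_inv := fun a => Subtype.ext (by simp) })]
    obtain ⟨m, hm⟩ := IsPGroup.iff_card.1 (h.pgroup.to_subgroup A)
    rw [hm]
    intro hd
    have h2 := (Nat.prime_dvd_prime_iff_eq hr Nat.prime_two).1 (hr.dvd_of_dvd_pow hd)
    exact (Nat.not_even_iff_odd.2 hodd) (even_iff_two_dvd.2 (h2 ▸ hrdvd))
  have hL : IsPGroup r (Subgroup.zpowers l) := IsPGroup.of_card (n := 1) (by rw [Nat.card_zpowers, hlo, pow_one])
  obtain ⟨y, hy⟩ := hL.nonempty_fixed_point_of_prime_not_dvd_card C hcardC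
  have hy1 : y.1 ≠ 1 := fun h1 => hx (by
    have := y.2
    rw [h1, mul_one] at this
    exact inv_mem_iff.1 this)
  have hl1 := h.free hlK hy1 (congrArg Subtype.val (hy ⟨l, Subgroup.mem_zpowers l⟩))
  rw [hl1, orderOf_one] at hlo
  exact hr.one_lt.ne hlo

theorem exists_pow_mem (h : RegInvol K) {A D : Subgroup P} {x : P} (hx : x ∈ D) (hxA : x ∉ A) :
    ∃ y ∈ D, y ∉ A ∧ y * y ∈ A := by
  classical
  obtain ⟨n, hn⟩ := exists_pow_two_eq_one h.pgroup
  have hex : ∃ j, x ^ 2 ^ j ∈ A := ⟨n, by rw [hn]; exact A.one_mem⟩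
  have h0 : Nat.find hex ≠ 0 := fun h0 => hxA (by simpa [h0] using Nat.find_spec hex)
  refine ⟨x ^ 2 ^ (Nat.find hex - 1), D.pow_mem hx _, Nat.find_min hex (by omega), ?_⟩
  rw [← pow_add, ← two_mul, ← pow_succ', show Nat.find hex - 1 + 1 = Nat.find hex by omega]
  exact Nat.find_spec hex

theorem RegInvol.sq_surj (h : RegInvol K) {A : Subgroup P} (hA : KInv K A)
    (hne : ¬ A ≤ Subgroup.center P) {z : P} (hz : z ∈ Subgroup.center P) : ∃ a ∈ A, a * a = z := by
  by_cases hz1 : z = 1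
  · exact ⟨1, A.one_mem, by simp [hz1]⟩
  obtain ⟨x, hx, hxZ⟩ := SetLike.not_le_iff_exists.1 hne
  obtain ⟨y, hy, hyZ, hy2⟩ := exists_pow_mem h hx hxZ
  have hy1 : y * y ≠ 1 := fun h1 => hyZ (h.mem_center_iff.2 h1)
  obtain ⟨k, hk, hkz⟩ := h.trans.trans _ z hy1 (h.mem_center_iff.1 hy2) hz1 (h.mem_center_iff.1 hz)
  exact ⟨k y, hA k hk y hy, by rw [← map_mul, hkz]⟩

theorem RegInvol.absorb (h : RegInvol K) {A : Subgroup P} (hA : KInv K A) (hZ : Subgroup.center P ≤ A)
    (hne : ¬ A ≤ Subgroup.center P) {x : P} (hx : ∀ a ∈ A, a * x = x * a) (hx2 : x * x ∈ Subgroup.center P) :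
    x ∈ A := by
  obtain ⟨a, ha, ha2⟩ := h.sq_surj hA hne hx2
  have h1 : x * a⁻¹ * (x * a⁻¹) = 1 := by
    have h2 : a⁻¹ * x = x * a⁻¹ := hx a⁻¹ (A.inv_mem ha)
    calc x * a⁻¹ * (x * a⁻¹) = x * (a⁻¹ * x) * a⁻¹ := by group
      _ = x * x * (a * a)⁻¹ := by rw [h2]; group
      _ = 1 := by rw [ha2, mul_inv_cancel]
  simpa using A.mul_mem (hZ (h.mem_center_iff.2 h1)) ha

/-- The restriction of `k` to an invariant subgroup. -/
def resAut {A : Subgroup P} (hA : KInv K A) : K →* MulAut A where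
  toFun k :=
    { toFun := fun x => ⟨(k : MulAut P) x, hA k k.2 x x.2⟩
      invFun := fun x => ⟨((k : MulAut P)⁻¹ : MulAut P) x, hA _ (K.inv_mem k.2) x x.2⟩
      left_inv := fun x => Subtype.ext ((k : MulAut P).symm_apply_apply x)
      right_inv := fun x => Subtype.ext ((k : MulAut P).apply_symm_apply x)
      map_mul' := fun x y => Subtype.ext (map_mul (k : MulAut P) x.1 y.1) }
  map_one' := rfl
  map_mul' _ _ := rfl

theorem RegInvol.transInvol_res (h : RegInvol K) {A : Subgroup P} (hA : KInv K A) :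
    TransInvol (resAut hA).range := by
  constructor
  · rintro _ ⟨k, rfl⟩ _ ⟨l, rfl⟩
    rw [← map_mul, ← map_mul]
    exact congrArg _ (Subtype.ext (h.trans.comm k k.2 l l.2))
  · intro x y hx hx2 hy hy2
    obtain ⟨k, hk, hkxy⟩ := h.trans.trans x.1 y.1 (fun h1 => hx (Subtype.ext h1)) (congrArg Subtype.val hx2)
      (fun h1 => hy (Subtype.ext h1)) (congrArg Subtype.val hy2)
    exact ⟨_, ⟨⟨k, hk⟩, rfl⟩, Subtype.ext hkxy⟩

theorem RegInvol.centralizer_comm (h : RegInvol K) {A : Subgroup P} (hA : KInv K A) {a : P} (ha : a ∈ A)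
    (haZ : a ∉ Subgroup.center P) (hab : ∀ b ∈ A, b * a = a * b) :
    ∀ x ∈ Subgroup.centralizer (A : Set P), ∀ y ∈ Subgroup.centralizer (A : Set P), x * y = y * x := by
  intro x hx y hy
  set D := Subgroup.centralizer (A : Set P)
  have haD : a ∈ D := Subgroup.mem_centralizer_iff.2 hab
  have := higman (h.pgroup.to_subgroup D) (h.transInvol_res hA.centralizer) (z := ⟨a, haD⟩)
    (Subgroup.mem_center_iff.2 fun g => Subtype.ext (Subgroup.mem_centralizer_iff.1 g.2 a ha).symm)
    (fun h1 => haZ (h.mem_center_iff.2 (congrArg Subtype.val h1))) ⟨x, hx⟩ ⟨y, hy⟩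
  exact congrArg Subtype.val this

variable (P) in
/-- The second centre. -/
def secondCenter : Subgroup P := (Subgroup.center (P ⧸ Subgroup.center P)).comap (QuotientGroup.mk' _)

theorem mem_secondCenter {x : P} : x ∈ secondCenter P ↔ ∀ y : P, ⁅x, y⁆ ∈ Subgroup.center P :=
  mk_mem_center_iff

theorem comm_mem' {w : P} (hw : w ∈ secondCenter P) (y : P) : ⁅y, w⁆ ∈ Subgroup.center P := by
  rw [← commutatorElement_inv]; exact Subgroup.inv_mem _ (mem_secondCenter.1 hw y)

theorem kinv_secondCenter : KInv K (secondCenter P) := by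
  intro k _ x hx
  rw [mem_secondCenter] at hx ⊢
  intro y
  have := apply_center k (hx (k⁻¹ y))
  rwa [map_commutatorElement, show k (k⁻¹ y) = y from k.apply_symm_apply y] at this

theorem center_le_secondCenter : Subgroup.center P ≤ secondCenter P := fun x hx =>
  mem_secondCenter.2 fun y => by
    rw [commutatorElement_def, ← Subgroup.mem_center_iff.1 hx y]
    simp

theorem RegInvol.secondCenter_not_le (h : RegInvol K) : ¬ secondCenter P ≤ Subgroup.center P := by
  intro hle
  obtain ⟨x₀, y₀, hxy⟩ := h.nc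
  haveI : Fact (Nat.Prime 2) := ⟨Nat.prime_two⟩
  haveI : Nontrivial (P ⧸ Subgroup.center P) := ⟨⟨x₀, 1, fun h1 => hxy
    (Subgroup.mem_center_iff.1 ((QuotientGroup.eq_one_iff _).1 h1) y₀).symm⟩⟩
  haveI := (h.pgroup.to_quotient (Subgroup.center P)).center_nontrivial
  obtain ⟨⟨u, hu⟩, hu1⟩ := exists_ne (1 : Subgroup.center (P ⧸ Subgroup.center P))
  obtain ⟨x, rfl⟩ := QuotientGroup.mk_surjective u
  exact hu1 (Subtype.ext ((QuotientGroup.eq_one_iff _).2 (hle hu)))

theorem conj_eq_comm_mul (x y : P) : x * y * x⁻¹ = ⁅x, y⁆ * y := by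
  simp [commutatorElement_def]

/-- If the second centre contains an invariant subgroup with centre `Z(P)`, squares are central. -/
theorem RegInvol.squares_of_sub (h : RegInvol K) {M : Subgroup P} (hM : KInv K M)
    (hMW : M ≤ secondCenter P) (hZM : Subgroup.center P ≤ M) (hne : ¬ M ≤ Subgroup.center P)
    (hcen : ∀ m ∈ M, (∀ a ∈ M, a * m = m * a) → m ∈ Subgroup.center P) (x : P) :
    x * x ∈ Subgroup.center P := by
  have hD : Subgroup.centralizer (M : Set P) ≤ Subgroup.center P := by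
    intro d hd
    by_contra hdZ
    obtain ⟨y, hy, hyZ, hy2⟩ := exists_pow_mem h hd hdZ
    have hyc := Subgroup.mem_centralizer_iff.1 hy
    exact hyZ (hcen y (h.absorb hM hZM hne hyc hy2) hyc)
  refine hD (Subgroup.mem_centralizer_iff.2 fun m hm => ?_)
  set c := ⁅x, m⁆ with hc
  have hcz : c ∈ Subgroup.center P := comm_mem' (hMW hm) x
  have h1 : x * x * m * (x * x)⁻¹ = m := by
    calc x * x * m * (x * x)⁻¹ = x * (x * m * x⁻¹) * x⁻¹ := by group
      _ = x * c * m * x⁻¹ := by rw [show x * m * x⁻¹ = c * m from conj_eq_comm_mul x m]; group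
      _ = c * (x * m * x⁻¹) := by rw [Subgroup.mem_center_iff.1 hcz x]; group
      _ = c * c * m := by rw [show x * m * x⁻¹ = c * m from conj_eq_comm_mul x m, mul_assoc]
      _ = m := by rw [h.mem_center_iff.1 hcz, one_mul]
  calc m * (x * x) = x * x * m * (x * x)⁻¹ * (x * x) := by rw [h1]
    _ = x * x * m := by group

end Cfsg.Agent.Lib.Suzuki2.ClassTwo
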